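import Groth.Agent.Lib.AmpleFin18.Crit
import Groth.Agent.Lib.EffCartier.Comap
import Groth.Agent.Lib.TensorMod.IdealMod
import Mathlib.AlgebraicGeometry.Morphisms.UnderlyingMap
import Mathlib.AlgebraicGeometry.FunctionField
import Mathlib.LinearAlgebra.Dual.Lemmas

/-!
# Ampleness descends along finite surjective morphisms
-/

set_option autoImplicit false
set_option linter.style.haveILetI false
set_option maxHeartbeats 800000
set_option backward.isDefEq.respectTransparency false

universe u

open CategoryTheory Limits AlgebraicGeometry TopologicalSpace Opposite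

namespace Groth.Agent.AmpleFin18

open Groth.Agent.CohFound

variable {X Y : Scheme.{u}}

/-- The direct image of the structure sheaf. -/
noncomputable abbrev pushO (f : Y ⟶ X) : X.Modules :=
  (Scheme.Modules.pushforward f).obj (Coh.structureModule Y)

/-- An ideal of `Y` whose image in `f_* O_Y` dies in `C` and is everything at points off the support. -/
theorem exists_ideal_into_kernel [IsNoetherian X] (f : Y ⟶ X) [IsFinite f] [IsLocallyNoetherian Y]
    {C : X.Modules} (hC : Coh.IsCoh C) (π : pushO f ⟶ C) {η : X} (hη : η ∉ CohB1.support C) :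
    ∃ (N : Y.Modules) (w : (Scheme.Modules.pushforward f).obj N ⟶ pushO f), Coh.IsCoh N ∧ w ≫ π = 0 ∧
      Function.Surjective (stL w η) := by
  classical
  haveI := hC.1
  let I := M1.annSheaf hC.1 hC.2
  let J := I.comap f
  let ι : ClSub.idealMod J ⟶ Coh.structureModule Y := ClSub.idealModι J
  haveI : Mono ι := inferInstanceAs (Mono (kernel.ι (ClSub.toSubscheme J)))
  have hN : Coh.IsCoh (ClSub.idealMod J) :=
    M1.isCoh_of_mono ι (M1.isCoh_structureModule Y) (M2.isQCoh_idealMod J)
  have hideal : ∀ (U : X.affineOpens), J.ideal ⟨f ⁻¹ᵁ U.1, U.2.preimage f⟩ =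
      (I.ideal U).map (f.app U.1).hom := fun U => by
    rw [EffCartier.comap_ideal I f U ⟨f ⁻¹ᵁ U.1, U.2.preimage f⟩ le_rfl, Scheme.Hom.app_eq_appLE]
  refine ⟨ClSub.idealMod J, (Scheme.Modules.pushforward f).map ι, hN, ?_, fun b => ?_⟩
  · refine Scheme.Modules.hom_ext _ _ fun V => ?_
    ext t
    refine M1.section_ext _ _ fun x hx => ?_
    obtain ⟨U, hU, hxU, hUV⟩ := exists_isAffineOpen_mem_and_subset (x := x) (U := V) hx
    let t' : Γ(ClSub.idealMod J, f ⁻¹ᵁ U) :=
      M1.mres (X := X) ((Scheme.Modules.pushforward f).obj (ClSub.idealMod J)) hUV t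
    have key : ∀ z : Γ(Y, f ⁻¹ᵁ U), z ∈ (I.ideal ⟨U, hU⟩).map (f.app U).hom →
        ∀ r : Γ(Y, f ⁻¹ᵁ U), π.app U (show Γ(pushO f, U) from r * z) = 0 := by
      intro z hz
      induction hz using Submodule.span_induction with
      | mem z hz =>
        obtain ⟨a, ha, rfl⟩ := hz
        intro r
        have e : (show Γ(pushO f, U) from r * f.app U a) = a • (show Γ(pushO f, U) from r) :=
          mul_comm r (f.app U a)
        rw [e, Scheme.Modules.Hom.app_smul]
        rw [SetLike.mem_coe, M1.annSheaf_ideal] at ha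
        exact Module.mem_annihilator.1 ha _
      | zero => intro r; rw [mul_zero]; exact map_zero _
      | add a b _ _ ha hb =>
        intro r
        rw [mul_add]
        exact (map_add (π.app U).hom _ _).trans (by
          rw [show (π.app U).hom (r * a : Γ(Y, f ⁻¹ᵁ U)) = 0 from ha r,
            show (π.app U).hom (r * b : Γ(Y, f ⁻¹ᵁ U)) = 0 from hb r, add_zero])
      | smul c a _ ha => intro r; rw [smul_eq_mul, ← mul_assoc]; exact ha _
    have hmem : M2.idealIncl J (U := f ⁻¹ᵁ U) t' ∈ (I.ideal ⟨U, hU⟩).map (f.app U).hom := by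
      refine (hideal ⟨U, hU⟩).le ?_
      exact (M2.range_idealIncl J ⟨f ⁻¹ᵁ U, hU.preimage f⟩).le ⟨t', rfl⟩
    have h0 := key _ hmem 1
    rw [one_mul] at h0
    have e1 : M1.mres C hUV (((Scheme.Modules.pushforward f).map ι ≫ π).app V t) =
        π.app U (show Γ(pushO f, U) from M2.idealIncl J (U := f ⁻¹ᵁ U) t') := by
      rw [← M1.app_mres, M1.comp_app_apply]
      rfl
    rw [Scheme.Modules.Hom.zero_app]
    show C.presheaf.germ V x hx _ = C.presheaf.germ V x hx 0
    rw [map_zero, ← M1.germ_mres C hUV hxU, e1, h0, map_zero]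
  · obtain ⟨W, hW, s, rfl⟩ := (pushO f).presheaf.exists_germ_eq b
    let S : X.Opens := ⟨(CohB1.support C)ᶜ, (M1.isClosed_support hC.2).isOpen_compl⟩
    obtain ⟨U, hU, hηU, hUW⟩ := exists_isAffineOpen_mem_and_subset (x := η) (U := W ⊓ S) ⟨hW, hη⟩
    have htop : I.ideal ⟨U, hU⟩ = ⊤ := by
      rw [M1.annSheaf_ideal]
      refine (Ideal.eq_top_iff_one _).2 (Module.mem_annihilator.2 fun m => ?_)
      rw [one_smul]
      exact M1.section_ext _ _ fun y hy =>
        ((M1.notMem_support_iff C y).1 (hUW hy).2 _).trans (map_zero _).symm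
    let s' : Γ(Y, f ⁻¹ᵁ U) := M1.mres (pushO f) (fun z hz => (hUW hz).1) s
    obtain ⟨t, ht⟩ : ∃ t, M2.idealIncl J (U := f ⁻¹ᵁ U) t = s' := by
      refine (M2.range_idealIncl J ⟨f ⁻¹ᵁ U, hU.preimage f⟩).ge ?_
      rw [SetLike.mem_coe, hideal ⟨U, hU⟩, htop, Ideal.map_top]
      trivial
    refine ⟨((Scheme.Modules.pushforward f).obj (ClSub.idealMod J)).presheaf.germ U η hηU t, ?_⟩
    rw [stL_germ, ← M1.germ_mres (pushO f) (fun z hz => (hUW hz).1 : U ≤ W) hηU s]
    exact congrArg ((pushO f).presheaf.germ U η hηU) ht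

/-- A module surjected onto, up to small error, by direct images of modules from `Y`. -/
theorem exists_map_ne_zero [IsIntegral X] [IsNoetherian X] (f : Y ⟶ X) [IsFinite f] [Surjective f]
    [IsLocallyNoetherian Y] {M : X.Modules} (hM : Coh.IsCoh M) {m₀ : M.presheaf.stalk (genericPoint X)}
    (hm₀ : m₀ ≠ 0) :
    ∃ (M' : X.Modules) (π' : M ⟶ M') (N : Y.Modules) (u : (Scheme.Modules.pushforward f).obj N ⟶ M'),
      Coh.IsCoh M' ∧ Epi π' ∧ Function.Injective (stL π' (genericPoint X)) ∧ Coh.IsCoh N ∧
        ∃ t, stL u (genericPoint X) t ≠ 0 := by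
  classical
  let η := genericPoint X
  let G := pushO f
  have hG : Coh.IsCoh G := Cyc26.isCoh_push_finite f (M1.isCoh_structureModule Y)
  have hK : IsField (X.presheaf.stalk η) := Field.toIsField X.functionField
  let one : Γ(G, (⊤ : X.Opens)) := (1 : Γ(Y, f ⁻¹ᵁ ⊤))
  let g₁ : G.presheaf.stalk η := G.presheaf.germ ⊤ η trivial one
  have hg₁ : g₁ ≠ 0 := fun h0 => by
    obtain ⟨V, hV, i₁, i₂, he⟩ := G.presheaf.germ_eq η (U := ⊤) (V := ⊤) trivial trivial one 0 (h0.trans (map_zero _).symm)
    obtain ⟨y, hy⟩ := f.surjective η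
    have hyV : y ∈ f ⁻¹ᵁ V := by rw [Scheme.Hom.mem_preimage, hy]; exact hV
    have h1 : (1 : Γ(Y, f ⁻¹ᵁ V)) = 0 := by
      have he' := he.trans (map_zero _)
      refine Eq.trans ?_ he'
      exact (map_one (Y.presheaf.map (homOfLE (f.preimage_mono i₁.le)).op).hom).symm
    have := congrArg (Y.presheaf.germ (f ⁻¹ᵁ V) y hyV) h1
    rw [map_one, map_zero] at this
    exact one_ne_zero this
  obtain ⟨lam, hlam⟩ : ∃ lam : G.presheaf.stalk η →ₗ[X.presheaf.stalk η] M.presheaf.stalk η, lam g₁ = m₀ := by
    letI := hK.toField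
    obtain ⟨φ, hφ⟩ := Module.Projective.exists_dual_ne_zero (X.presheaf.stalk η) hg₁
    refine ⟨((φ g₁)⁻¹ • φ).smulRight m₀, ?_⟩
    rw [LinearMap.smulRight_apply, LinearMap.smul_apply, smul_eq_mul, inv_mul_cancel₀ hφ, one_smul]
  let E := G ⊞ M
  have hE : Coh.IsCoh E := M1.isCoh_biprod hG hM
  let gr : G.presheaf.stalk η →ₗ[X.presheaf.stalk η] E.presheaf.stalk η :=
    stL (biprod.inl : G ⟶ E) η + (stL (biprod.inr : M ⟶ E) η).comp lam
  let N₀ := LinearMap.range gr
  have hnil : ∀ g ∈ IsLocalRing.maximalIdeal (X.presheaf.stalk η), ∃ n : ℕ,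
      ∀ a : E.presheaf.stalk η, g ^ n • a = 0 := fun g hg => ⟨1, fun a => by
    rw [IsLocalRing.isField_iff_maximalIdeal_eq.1 hK, Ideal.mem_bot] at hg
    rw [hg, pow_one, zero_smul]⟩
  let K := cutAt E η N₀
  let κ := cutι E η N₀
  have hKc : Coh.IsCoh K := isCoh_cutAt E η N₀ hE hnil
  let a : K ⟶ G := κ ≫ biprod.fst
  let b : K ⟶ M := κ ≫ biprod.snd
  have hgr1 : ∀ g, stL (biprod.fst : E ⟶ G) η (gr g) = g := fun g => by
    rw [LinearMap.add_apply, map_add, LinearMap.comp_apply, ← stL_comp, ← stL_comp, biprod.inl_fst,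
      biprod.inr_fst, stL_id, stL_zero, add_zero]
  have hgr2 : ∀ g, stL (biprod.snd : E ⟶ M) η (gr g) = lam g := fun g => by
    rw [LinearMap.add_apply, map_add, LinearMap.comp_apply, ← stL_comp, ← stL_comp, biprod.inl_snd,
      biprod.inr_snd, stL_id, stL_zero, zero_add]
  have hab : ∀ e, stL b η e = lam (stL a η e) := fun e => by
    obtain ⟨g, hg⟩ := (range_stL_cutι E η N₀).le (LinearMap.mem_range_self _ e)
    rw [stL_comp, stL_comp, ← hg, hgr1, hgr2]
  have hainj : Function.Injective (stL a η) := (injective_iff_map_eq_zero _).2 fun e he => by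
    obtain ⟨g, hg⟩ := (range_stL_cutι E η N₀).le (LinearMap.mem_range_self _ e)
    rw [stL_comp, ← hg, hgr1] at he
    refine stL_injective_of_mono κ η ?_
    rw [map_zero, ← hg, he, map_zero]
  have hasurj : Function.Surjective (stL a η) := fun g => by
    obtain ⟨e, he⟩ := (range_stL_cutι E η N₀).ge (LinearMap.mem_range_self gr g)
    exact ⟨e, by rw [stL_comp, he, hgr1]⟩
  -- replace `M` by a quotient through which `b` descends to the image of `a`
  let k : kernel a ⟶ M := kernel.ι a ≫ b
  let π' : M ⟶ cokernel k := cokernel.π k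
  have hM' : Coh.IsCoh (cokernel k) := M1.isCoh_cokernel (M1.isCoh_kernel hKc hG.1 a).1 hM k
  have hπ' : Function.Injective (stL π' η) := (injective_iff_map_eq_zero _).2 fun m hm => by
    obtain ⟨z, hz⟩ := M1.exact_elem (S := ShortComplex.mk k π' (cokernel.condition k))
      (ShortComplex.exact_cokernel k) η m hm
    have hz0 : z = 0 := (M1.notMem_support_iff _ η).1 (notMem_support_kernel a η hainj) z
    rw [← hz, hz0]
    exact map_zero _
  have hC : Coh.IsCoh (cokernel a) := M1.isCoh_cokernel hKc.1 hG a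
  obtain ⟨N, w, hN, hw, hwsurj⟩ :=
    exists_ideal_into_kernel f hC (cokernel.π a) ((notMem_support_cokernel_iff a η).2 hasurj)
  let v : (Scheme.Modules.pushforward f).obj N ⟶ Abelian.image a := kernel.lift (cokernel.π a) w hw
  let d : Abelian.coimage a ⟶ cokernel k :=
    cokernel.desc (kernel.ι a) (b ≫ π') (by rw [← Category.assoc]; exact cokernel.condition k)
  let u := v ≫ (Abelian.coimageIsoImage a).inv ≫ d
  refine ⟨cokernel k, π', N, u, hM', inferInstance, hπ', hN, ?_⟩
  obtain ⟨e, he⟩ := hasurj g₁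
  obtain ⟨t, ht⟩ := hwsurj g₁
  refine ⟨t, ?_⟩
  have hv : stL v η t = stL (Abelian.coimageIsoImage a).hom η (stL (Abelian.coimage.π a) η e) := by
    refine stL_injective_of_mono (Abelian.image.ι a) η ?_
    have h3 : stL (Abelian.image.ι a) η (stL (Abelian.coimageIsoImage a).hom η (stL (Abelian.coimage.π a) η e)) =
        stL a η e := by
      rw [← stL_comp, ← stL_comp]
      exact congrArg (fun φ => stL φ η e)
        ((Category.assoc _ _ _).trans (Abelian.coimage_image_factorisation a))
    rw [h3, he, ← ht, ← stL_comp, kernel.lift_ι]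
  rw [stL_comp, hv, ← stL_comp, Iso.hom_inv_id_assoc, ← stL_comp,
    show Abelian.coimage.π a ≫ d = b ≫ π' from cokernel.π_desc _ _ _, stL_comp, hab, he, hlam]
  exact fun h0 => hm₀ (hπ' (h0.trans (map_zero _).symm))

variable {A : Type u} [CommRing A] [IsNoetherianRing A] {L : X.Modules}

/-- The inductive step: all higher cohomology vanishes on an integral target. -/
theorem van_of_finite_surjective [IsIntegral X] (q : X ⟶ Spec (CommRingCat.of A)) [IsProper q]
    (hL : PicF.IsInvertible L) (f : Y ⟶ X) [IsFinite f] [Surjective f]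
    (hY : CohB1.IsAmple ((Scheme.Modules.pullback f).obj L))
    (h : ∀ (Z : Scheme.{u}) (i : Z ⟶ X), IsClosedImmersion i → IsIntegral Z → Set.range i ≠ Set.univ →
      CohB1.IsAmple ((Scheme.Modules.pullback i).obj L))
    {M : X.Modules} (hM : Coh.IsCoh M) {p : ℕ} (hp : 0 < p) : Van L M p := by
  classical
  haveI := isNoetherian_of_isProper q
  haveI : IsLocallyNoetherian Y := LocallyOfFiniteType.isLocallyNoetherian f
  obtain ⟨d, hd⟩ := exists_van_bound q hL
  generalize ht : d - p = t
  induction t using Nat.strong_induction_on generalizing p M with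
  | _ t ih =>
    by_cases hdp : d ≤ p
    · exact hd M hM p hdp
    have hnext : ∀ M : X.Modules, Coh.IsCoh M → Van L M (p + 1) := fun M hM =>
      ih (d - (p + 1)) (by omega) hM (Nat.succ_pos p) rfl
    let η := genericPoint X
    have hK : IsField (X.presheaf.stalk η) := Field.toIsField X.functionField
    have hsmall : ∀ M : X.Modules, Coh.IsCoh M → η ∉ CohB1.support M → Van L M p := fun M hM hη =>
      van_of_support q hL h hM (fun e => hη (e ▸ Set.mem_univ η)) hp
    suffices main : ∀ (r : ℕ) (M : X.Modules), Coh.IsCoh M →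
        Module.finrank (X.presheaf.stalk η) (M.presheaf.stalk η) ≤ r → Van L M p from main _ M hM le_rfl
    intro r
    induction r using Nat.strong_induction_on with
    | _ r ihr =>
      intro M hM hr
      by_cases hη : η ∈ CohB1.support M
      swap
      · exact hsmall M hM hη
      obtain ⟨m₀, hm₀⟩ : ∃ m₀ : M.presheaf.stalk η, m₀ ≠ 0 := by
        by_contra hcon
        exact (M1.notMem_support_iff M η).2 (by simpa using hcon) hη
      obtain ⟨M', π', N, u, hM', hπe, hπ', hN, t, hut⟩ := exists_map_ne_zero f hM hm₀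
      haveI := hπe
      have hP := shortExact_kernel π'
      refine Van.mid hL hP (hsmall _ (M1.isCoh_kernel hM hM'.1 π') (notMem_support_kernel π' η hπ')) ?_
      show Van L M' p
      have hfN : Coh.IsCoh ((Scheme.Modules.pushforward f).obj N) := Cyc26.isCoh_push_finite f hN
      have hS₁ : (CurveCoh17.kerSC u).ShortExact := CurveCoh17.kerSC_shortExact u
      have hI : Van L (Abelian.image u) p := Van.right hL hS₁
        (hnext _ (M1.isCoh_kernel hfN hM'.1 u))
        (Van.push hL f hN.1 (van_of_isAmple (f ≫ q) hY hN hp))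
      refine Van.mid hL (CurveCoh17.cokerSC_shortExact u) hI ?_
      show Van L (cokernel u) p
      refine ihr _ ?_ (cokernel u) (M1.isCoh_cokernel hfN.1 hM' u) le_rfl
      letI := hK.toField
      haveI : Module.Finite (X.presheaf.stalk η) (M.presheaf.stalk η) := M1.finite_stalk hM.1 hM.2 η
      let e : M.presheaf.stalk η ≃ₗ[X.presheaf.stalk η] (M'.presheaf.stalk η : Type u) :=
        LinearEquiv.ofBijective (stL π' η) ⟨hπ', stL_surjective_of_epi π' η⟩
      haveI : Module.Finite (X.presheaf.stalk η) (M'.presheaf.stalk η) := Module.Finite.equiv e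
      have hpos : 0 < Module.finrank (X.presheaf.stalk η) (LinearMap.ker (stL (cokernel.π u) η)) := by
        refine Module.finrank_pos_iff.2 (Submodule.nontrivial_iff_ne_bot.2 fun hb => hut ?_)
        have hmem : stL u η t ∈ LinearMap.ker (stL (cokernel.π u) η) := by
          rw [LinearMap.mem_ker, ← stL_comp, cokernel.condition, stL_zero]
        rw [hb] at hmem
        exact (Submodule.mem_bot _).1 hmem
      have hrn := LinearMap.finrank_range_add_finrank_ker (stL (cokernel.π u) η)
      rw [LinearMap.range_eq_top.2 (stL_surjective_of_epi (cokernel.π u) η), finrank_top, ← e.finrank_eq] at hrn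
      omega

/-- Ampleness descends along finite surjective morphisms onto integral schemes, given the smaller
closed subschemes. -/
theorem isAmple_of_finite_surjective_integral [IsIntegral X] (q : X ⟶ Spec (CommRingCat.of A)) [IsProper q]
    (hL : PicF.IsInvertible L) (f : Y ⟶ X) [IsFinite f] [Surjective f]
    (hY : CohB1.IsAmple ((Scheme.Modules.pullback f).obj L))
    (h : ∀ (Z : Scheme.{u}) (i : Z ⟶ X), IsClosedImmersion i → IsIntegral Z → Set.range i ≠ Set.univ →
      CohB1.IsAmple ((Scheme.Modules.pullback i).obj L)) : CohB1.IsAmple L := by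
  haveI := isNoetherian_of_isProper q
  exact isAmple_of_vanishing hL fun M hM => van_of_finite_surjective q hL f hY h hM one_pos

/-- Ampleness descends along finite surjective morphisms of proper schemes. -/
theorem isAmple_of_finite_surjective (q : X ⟶ Spec (CommRingCat.of A)) [IsProper q]
    (hL : PicF.IsInvertible L) (f : Y ⟶ X) [IsFinite f] [Surjective f]
    (hY : CohB1.IsAmple ((Scheme.Modules.pullback f).obj L)) : CohB1.IsAmple L := by
  haveI := isNoetherian_of_isProper q
  suffices main : ∀ (C : Closeds X) (Z : Scheme.{u}) (i : Z ⟶ X), IsClosedImmersion i → IsIntegral Z →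
      Set.range i ⊆ C → CohB1.IsAmple ((Scheme.Modules.pullback i).obj L) from
    isAmple_of_integral q hL fun Z i hi hZ => main ⊤ Z i hi hZ (Set.subset_univ _)
  intro C
  induction C using WellFoundedLT.induction with
  | ind C ih =>
    intro Z i hi hZ hiC
    haveI := hi
    haveI := hZ
    let g := pullback.snd f i
    refine isAmple_of_finite_surjective_integral (i ≫ q) (Twist.isInvertible_pullback i hL) g ?_ ?_
    · rw [RA.isAmple_pullback_comp_iff, RA.isAmple_pullback_congr (pullback.condition (f := f) (g := i)).symm,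
        ← RA.isAmple_pullback_comp_iff]
      exact Amp.isAmple_pullback_of_isAffineHom (pullback.fst f i) hY
    · intro Z' j hj hZ' hne
      haveI := hj
      rw [RA.isAmple_pullback_comp_iff]
      let C' : Closeds X := ⟨Set.range (j ≫ i), (j ≫ i).isClosedEmbedding.isClosed_range⟩
      refine ih C' (lt_of_le_of_ne ?_ ?_) Z' (j ≫ i) inferInstance hZ' (subset_of_eq rfl)
      · rintro x ⟨z, rfl⟩
        exact hiC ⟨j z, rfl⟩
      · intro e
        refine hne (Set.eq_univ_of_forall fun z => ?_)
        have hz : i z ∈ (C' : Set X) := by rw [e]; exact hiC ⟨z, rfl⟩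
        obtain ⟨w, hw⟩ := hz
        exact ⟨w, i.isClosedEmbedding.injective hw⟩

end Groth.Agent.AmpleFin18
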