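import Groth.Agent.Lib.Twist.UniversalExist
import Groth.Agent.Lib.TensorMod.PullTensor
import Groth.Agent.Lib.TensorMod.Restrict
import Groth.Agent.Lib.CurveCoh17.Vanish

/-!
# The projection formula for invertible modules along an arbitrary morphism
-/

set_option autoImplicit false
set_option linter.style.haveILetI false
set_option backward.isDefEq.respectTransparency false

universe u

open CategoryTheory Limits AlgebraicGeometry TopologicalSpace Opposite TensorProduct

namespace Groth.Agent.AmpleFin18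

open Groth.Agent.M1 Groth.Agent.M2

variable {X Y : Scheme.{u}}

/-- Multiplication by a generator identifies sections of `G` with sections of `E ⊗ G`. -/
theorem bijective_tsec {E G : X.Modules} {U : X.Opens} {e : Γ(E, U)} (he : Twist.IsGen E U e)
    {V : X.Opens} (hV : V ≤ U) :
    Function.Bijective fun s : Γ(G, V) => tsec E G (mres E hV e) s := by
  have hst : ∀ (x : X) (hx : x ∈ U), Function.Bijective
      fun a : G.presheaf.stalk x => (E.presheaf.germ U x hx e : E.presheaf.stalk x) ⊗ₜ[X.presheaf.stalk x] a := by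
    intro x hx
    let q : X.presheaf.stalk x ≃ₗ[X.presheaf.stalk x] (E.presheaf.stalk x : Type u) :=
      LinearEquiv.ofBijective (LinearMap.toSpanSingleton _ _ (E.presheaf.germ U x hx e)) (he.stalk hx)
    convert ((TensorProduct.lid (X.presheaf.stalk x) (G.presheaf.stalk x)).symm.trans
      (LinearEquiv.rTensor (G.presheaf.stalk x) q)).bijective using 1
    funext a
    simp [q, LinearMap.toSpanSingleton_apply]
  have key : ∀ (W : X.Opens) (hW : W ≤ U) (s t : Γ(G, W)),
      tsec E G (mres E hW e) s = tsec E G (mres E hW e) t → s = t := fun W hW s t h =>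
    M1.section_ext _ _ fun x hx => (hst x (hW hx)).1 (by
      have h' := congrArg (fun z => stalkEquiv E G x ((CohB1.tensorMod E G).presheaf.germ W x hx z)) h
      simp only [stalkEquiv_tsec, germ_mres] at h'
      exact h')
  have hres : ∀ (W W' : X.Opens) (hW : W ≤ U) (h : W' ≤ W) (s : Γ(G, W)),
      mres (CohB1.tensorMod E G) h (tsec E G (mres E hW e) s) =
        tsec E G (mres E (h.trans hW) e) (mres G h s) := fun W W' hW h s =>
    (res_tsec h _ s).trans (congrArg (fun z => tsec E G z (mres G h s)) (mres_mres E hW h e))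
  refine ⟨key V hV, fun z => ?_⟩
  have hloc : ∀ x : V, ∃ (W : X.Opens) (hWV : W ≤ V) (s : Γ(G, W)), x.1 ∈ W ∧
      tsec E G (mres E (hWV.trans hV) e) s = mres (CohB1.tensorMod E G) hWV z := fun x => by
    obtain ⟨a, ha⟩ := (hst x.1 (hV x.2)).2 (stalkEquiv E G x.1 ((CohB1.tensorMod E G).presheaf.germ V x.1 x.2 z))
    obtain ⟨W, hW, s, rfl⟩ := G.presheaf.exists_germ_eq a
    have hWV : x.1 ∈ W ⊓ V := ⟨hW, x.2⟩
    have he' : (CohB1.tensorMod E G).presheaf.germ (W ⊓ V) x.1 hWV
        (tsec E G (mres E ((inf_le_right : W ⊓ V ≤ V).trans hV) e) (mres G (inf_le_left : W ⊓ V ≤ W) s)) =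
        (CohB1.tensorMod E G).presheaf.germ (W ⊓ V) x.1 hWV
          (mres (CohB1.tensorMod E G) (inf_le_right : W ⊓ V ≤ V) z) := by
      refine (stalkEquiv E G x.1).injective ?_
      rw [stalkEquiv_tsec, germ_mres, germ_mres, germ_mres]
      exact ha
    obtain ⟨Z, hZ, i₁, i₂, hz⟩ := (CohB1.tensorMod E G).presheaf.germ_eq x.1 hWV hWV _ _ he'
    refine ⟨Z, i₁.le.trans inf_le_right, mres G i₁.le (mres G inf_le_left s), hZ, ?_⟩
    replace hz : mres (CohB1.tensorMod E G) i₁.le
        (tsec E G (mres E ((inf_le_right : W ⊓ V ≤ V).trans hV) e) (mres G (inf_le_left : W ⊓ V ≤ W) s)) =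
        mres (CohB1.tensorMod E G) i₁.le (mres (CohB1.tensorMod E G) (inf_le_right : W ⊓ V ≤ V) z) := hz
    rwa [hres, mres_mres (CohB1.tensorMod E G)] at hz
  choose W hW s hx hs using hloc
  have hcov : V ≤ ⨆ x, W x := fun x hxV => Opens.mem_iSup.2 ⟨⟨x, hxV⟩, hx _⟩
  obtain ⟨S, hS, -⟩ := TopCat.Sheaf.existsUnique_gluing' ⟨_, G.isSheaf⟩ W V (fun x => homOfLE (hW x)) hcov s
    fun x y => by
      show mres G (inf_le_left : W x ⊓ W y ≤ W x) (s x) = mres G (inf_le_right : W x ⊓ W y ≤ W y) (s y)
      refine key _ (inf_le_left.trans ((hW x).trans hV)) _ _ ?_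
      have ex := congrArg (mres (CohB1.tensorMod E G) (inf_le_left : W x ⊓ W y ≤ W x)) (hs x)
      have ey := congrArg (mres (CohB1.tensorMod E G) (inf_le_right : W x ⊓ W y ≤ W y)) (hs y)
      rw [hres, mres_mres] at ex ey
      exact ex.trans ey.symm
  refine ⟨S, modules_eq_of_locally_eq _ V W hW hcov _ _ fun x => ?_⟩
  show mres (CohB1.tensorMod E G) (hW x) (tsec E G (mres E hV e) S) = mres (CohB1.tensorMod E G) (hW x) z
  rw [hres, show mres G (hW x) S = s x from hS x]
  exact hs x

variable (f : Y ⟶ X) (E : X.Modules) (N : Y.Modules)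

/-- The projection map `E ⊗ f_* N ⟶ f_* (f^* E ⊗ N)`. -/
noncomputable def projHom :
    CohB1.tensorMod E ((Scheme.Modules.pushforward f).obj N) ⟶
      (Scheme.Modules.pushforward f).obj (CohB1.tensorMod ((Scheme.Modules.pullback f).obj E) N) :=
  tensorMap ((Scheme.Modules.pullbackPushforwardAdjunction f).unit.app E) (𝟙 _) ≫ pushLax f _ N

theorem projHom_tsec {V : X.Opens} (s : Γ(E, V)) (t : Γ(N, f ⁻¹ᵁ V)) :
    (projHom f E N).app V (tsec E ((Scheme.Modules.pushforward f).obj N) s t) =
      tsec ((Scheme.Modules.pullback f).obj E) N (U := f ⁻¹ᵁ V) (pullSec f E s) t := by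
  rw [projHom, M1.comp_app_apply]
  refine Eq.trans (congrArg ((pushLax f _ _).app V) (tensorMap_tsec (L := E) (M := (Scheme.Modules.pushforward f).obj N) _ _ s t)) ?_
  exact mkHom_tsec (laxBiMap f _ _) _ _

theorem bijective_projHom_app {U : X.Opens} {e : Γ(E, U)} (he : Twist.IsGen E U e) (V : X.Opens) (hV : V ≤ U) :
    Function.Bijective ((projHom f E N).app V) := by
  have h1 := bijective_tsec (G := (Scheme.Modules.pushforward f).obj N) he hV
  have heV := he.mres hV
  have h2 := bijective_tsec (G := N) (heV.pullback f) (le_refl (f ⁻¹ᵁ V))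
  refine (Function.Bijective.of_comp_iff ((projHom f E N).app V) h1).1 ?_
  rw [show ((projHom f E N).app V ∘ fun s => tsec E ((Scheme.Modules.pushforward f).obj N) (mres E hV e) s) =
    fun t : Γ(N, f ⁻¹ᵁ V) => tsec ((Scheme.Modules.pullback f).obj E) N
      (mres _ (le_refl (f ⁻¹ᵁ V)) (pullSec f E (mres E hV e))) t from funext fun t => by
        rw [mres_id]; exact projHom_tsec f E N (mres E hV e) t]
  exact h2

theorem isIso_projHom (hE : PicF.IsInvertible E) : IsIso (projHom f E N) := by
  rw [M1.isIso_iff_stalk]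
  intro x
  obtain ⟨U, e, hxU, he⟩ := ProjUP.exists_isGen_of_invertible hE x
  exact CurveCoh17.bijective_stalkMap_of_app _ U (bijective_projHom_app f E N he) hxU

/-- Projection formula for invertible modules. -/
noncomputable def projIso (hE : PicF.IsInvertible E) :
    CohB1.tensorMod ((Scheme.Modules.pushforward f).obj N) E ≅
      (Scheme.Modules.pushforward f).obj (CohB1.tensorMod N ((Scheme.Modules.pullback f).obj E)) :=
  haveI := isIso_projHom f E N hE
  tensorComm _ E ≪≫ asIso (projHom f E N) ≪≫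
    (Scheme.Modules.pushforward f).mapIso (tensorComm _ N)

end Groth.Agent.AmpleFin18
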