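import Groth.Agent.Lib.AmpleFin18.ProjFree
import Groth.Agent.Lib.CohFound.AmpleVan
import Groth.Agent.Lib.CohFound.PushFin
import Groth.Agent.Lib.Cyc26.PushFin
import Groth.Agent.Lib.CurveAmple18.EulerTensor
import Groth.Agent.Lib.CurveCoh17.Twist
import Groth.Agent.Lib.CurveCoh17.RegPoint
import Groth.Prelude.Def_CurvBase
import Mathlib.AlgebraicGeometry.ZariskisMainTheorem
import Mathlib.AlgebraicGeometry.ResidueField

/-!
# Degree of a pullback along a finite map of curves
-/

set_option autoImplicit false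
set_option linter.style.haveILetI false
set_option maxHeartbeats 800000
set_option backward.isDefEq.respectTransparency false

universe u

open CategoryTheory Limits AlgebraicGeometry TopologicalSpace Opposite

namespace Groth.Agent.AmpleFin18

open Groth.Agent.CohFound

variable {k : Type u} [Field k] {X Y : Scheme.{u}} [X.Over (Spec (CommRingCat.of k))]
  [Y.Over (Spec (CommRingCat.of k))]

/-- Cohomology of a direct image along an affine morphism, linearly over the base. -/
theorem nonempty_HH_push (f : X ⟶ Y) [IsAffineHom f]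
    (hf : f ≫ (Y ↘ Spec (CommRingCat.of k)) = X ↘ Spec (CommRingCat.of k))
    (M : X.Modules) (hM : Coh.IsQCoh M) (n : ℕ) :
    Nonempty (Coh.HH Y ((Scheme.Modules.pushforward f).obj M) n ≃ₗ[k] Coh.HH X M n) := by
  let φ : k →+* Γ(Y, ⊤) := Coh.toGlobal (Y ↘ Spec (CommRingCat.of k))
  let ψ : k →+* Γ(X, ⊤) := Coh.toGlobal (X ↘ Spec (CommRingCat.of k))
  have hψ : ∀ a, f.appTop (φ a) = ψ a := fun a => by
    have h := ConcreteCategory.congr_hom (congrArg Scheme.Hom.appTop hf)
      ((Scheme.ΓSpecIso (CommRingCat.of k)).inv a)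
    exact h
  obtain ⟨ε, hε⟩ := exists_hc_push_commute (f.base : sp X ⟶ sp Y) Y.isBasis_affineOpens n ((abF X).obj M)
    (pushAcyclic_isAffineHom f M hM n) ⊤
  let T := (mpEquiv (abFPushIso f M) n ⊤).trans ε
  have hT : ∀ a x, T (gMul ((Scheme.Modules.pushforward f).obj M) (φ a) n ⊤ x) = gMul M (ψ a) n ⊤ (T x) := fun a x => by
    rw [← hψ a]
    exact trans_commute (abFPushIso f M) n ⊤ ε _ _ _ (abFPushIso_gEnd f M (φ a)) (hε (gEnd M (f.appTop (φ a)))) x
  let E : Coh.HH Y ((Scheme.Modules.pushforward f).obj M) n ≃+ Coh.HH X M n :=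
    (hhExt _ n).trans (T.trans (hhExt M n).symm)
  refine ⟨{ E with map_smul' := fun a x => ?_ }⟩
  show E (a • x) = a • E x
  apply (hhExt M n).injective
  simp only [E, AddEquiv.trans_apply, AddEquiv.apply_symm_apply]
  have h1 : hhExt ((Scheme.Modules.pushforward f).obj M) n (a • x) =
      gMul ((Scheme.Modules.pushforward f).obj M) (φ a) n ⊤ (hhExt _ n x) :=
    hExt_map (gEnd _ (φ a)) n x
  have h2 : hhExt M n (a • (hhExt M n).symm (T (hhExt _ n x))) =
      gMul M (ψ a) n ⊤ (hhExt M n ((hhExt M n).symm (T (hhExt _ n x)))) :=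
    hExt_map (gEnd M (ψ a)) n _
  refine (congrArg (fun z => hhExt M n ((hhExt M n).symm (T z))) h1).trans ?_
  exact ((hhExt M n).apply_symm_apply _).trans ((hT a _).trans
    (h2.trans (congrArg (gMul M (ψ a) n ⊤) ((hhExt M n).apply_symm_apply _))).symm)

theorem euler_push (f : X ⟶ Y) [IsAffineHom f]
    (hf : f ≫ (Y ↘ Spec (CommRingCat.of k)) = X ↘ Spec (CommRingCat.of k))
    (M : X.Modules) (hM : Coh.IsQCoh M) :
    Curv2.euler k Y ((Scheme.Modules.pushforward f).obj M) = Curv2.euler k X M :=
  finsum_congr fun n => by rw [(nonempty_HH_push f hf M hM n).some.finrank_eq]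

/-- In dimension one a point other than the generic one is closed. -/
theorem isClosed_of_ne_genericPoint [IsIntegral X] (hd : topologicalKrullDim X ≤ 1) {x : X}
    (hx : x ≠ genericPoint X) : IsClosed ({x} : Set X) := by
  rw [← closure_eq_iff_isClosed]
  refine Set.Subset.antisymm (fun y hy => ?_) subset_closure
  have hxy : x ⤳ y := specializes_iff_mem_closure.2 hy
  by_contra hne
  have h1 := Order.height_add_one_le (VarDim.lt_of_specializes_ne hxy hne)
  have h2 := Order.height_add_one_le (VarDim.lt_of_specializes_ne (genericPoint_specializes x) hx)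
  have h3 : (Order.height (genericPoint X) : WithBot ℕ∞) ≤ ((1 : ℕ∞) : WithBot ℕ∞) :=
    (ProjDeg17.height_le_dim_of_mem isClosed_univ (Set.mem_univ _)).trans
      ((Topology.IsInducing.subtypeVal.topologicalKrullDim_le).trans hd)
  have h4 : Order.height y + 1 + 1 ≤ (1 : ℕ∞) :=
    ((add_le_add h1 le_rfl).trans h2).trans (WithBot.coe_le_coe.1 h3)
  rw [add_assoc] at h4
  have h5 : ((2 : ℕ) : ℕ∞) ≤ ((1 : ℕ) : ℕ∞) := by
    refine le_trans ?_ h4
    norm_num
  exact absurd (Nat.cast_le.1 h5) (by norm_num)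

theorem preimage_genericPoint [IsIntegral X] [IsIntegral Y] (hX : topologicalKrullDim X ≤ 1)
    (hY : topologicalKrullDim Y = 1) (f : X ⟶ Y) [IsProper f] {x : X}
    (hx : f x = genericPoint Y) : x = genericPoint X := by
  by_contra hne
  have hcl : IsClosed (f '' {x}) := f.isClosedMap _ (isClosed_of_ne_genericPoint hX hne)
  rw [Set.image_singleton, hx] at hcl
  exact CurveCoh17.genericPoint_ne_of_isClosed hY hcl rfl

/-- A nonconstant map of proper curves is finite. -/
theorem isFinite_of_nonconstant [IsIntegral X] [IsIntegral Y] (hX : topologicalKrullDim X ≤ 1)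
    (hY : topologicalKrullDim Y = 1) [IsNoetherian X] (f : X ⟶ Y) [IsProper f]
    (hξ : f (genericPoint X) = genericPoint Y) : IsFinite f := by
  haveI : LocallyQuasiFinite f := LocallyQuasiFinite.of_finite_preimage_singleton f fun y => by
    by_cases hy : y = genericPoint Y
    · exact (Set.finite_singleton (genericPoint X)).subset fun x hx =>
        preimage_genericPoint hX hY f ((Set.mem_singleton_iff.1 hx).trans hy)
    · have hcl : IsClosed (f ⁻¹' {y}) := (isClosed_of_ne_genericPoint hY.le hy).preimage f.continuous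
      obtain ⟨S, hS, -⟩ := CurveCoh17.exists_finset_closedPoints hX hcl fun g hg hgC => hy (by
        rw [← Set.mem_singleton_iff.1 hgC, CurveCoh17.eq_genericPoint_of_maximal hg, hξ])
      exact hS ▸ S.finite_toSet
  exact IsFinite.of_isProper_of_locallyQuasiFinite f

/-- The generic rank of `f_* O` is the residue degree at the generic point. -/
theorem finrank_pushO_genericPoint [IsIntegral X] [IsIntegral Y] (hX : topologicalKrullDim X ≤ 1)
    (hY : topologicalKrullDim Y = 1) (f : X ⟶ Y) [IsProper f]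
    (hξ : f (genericPoint X) = genericPoint Y) {y : Y} (hy : f (genericPoint X) = y) :
    Module.finrank (Y.presheaf.stalk y)
      (((Scheme.Modules.pushforward f).obj (Coh.structureModule X)).presheaf.stalk y) =
      f.residueDegree (genericPoint X) := by
  subst hy
  let ξ := genericPoint X
  let G := (Scheme.Modules.pushforward f).obj (Coh.structureModule X)
  letI : Algebra (Y.presheaf.stalk (f ξ)) (X.presheaf.stalk ξ) := (f.stalkMap ξ).hom.toAlgebra
  letI : Algebra (Y.residueField (f ξ)) (X.residueField ξ) := (f.residueFieldMap ξ).hom.toAlgebra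
  have hKY : IsField (Y.presheaf.stalk (f ξ)) := by
    rw [hξ]; exact Field.toIsField Y.functionField
  have hKX : IsField (X.presheaf.stalk ξ) := Field.toIsField X.functionField
  have bij : ∀ (Z : Scheme.{u}) (z : Z), IsField (Z.presheaf.stalk z) → Function.Bijective (Z.residue z) :=
    fun Z z h => ⟨by
      refine (injective_iff_map_eq_zero _).2 fun a ha => ?_
      by_contra hne
      have hu : IsUnit a := by
        letI := h.toField
        exact isUnit_iff_ne_zero.2 hne
      have h0 := hu.map (Z.residue z).hom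
      rw [show (Z.residue z).hom a = 0 from ha] at h0
      exact not_isUnit_zero h0, IsLocalRing.residue_surjective⟩
  have h1 : Module.finrank (Y.presheaf.stalk (f ξ)) (X.presheaf.stalk ξ) = f.residueDegree ξ :=
    Algebra.finrank_eq_of_equiv_equiv (RingEquiv.ofBijective (Y.residue (f ξ)).hom (bij _ _ hKY))
      (RingEquiv.ofBijective (X.residue ξ).hom (bij _ _ hKX))
      (RingHom.ext fun a => ConcreteCategory.congr_hom (Scheme.residue_residueFieldMap f ξ) a)
  rw [← h1]
  let q : G.presheaf.stalk (f ξ) →+ ((Coh.structureModule X).presheaf.stalk ξ : Type u) :=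
    (TopCat.Presheaf.stalkPushforward AddCommGrpCat.{u} f.base (Coh.structureModule X).presheaf ξ).hom
  have hq : ∀ (V : Y.Opens) (hV : f ξ ∈ V) (s : Γ(G, V)),
      q (G.presheaf.germ V (f ξ) hV s) = (Coh.structureModule X).presheaf.germ (f ⁻¹ᵁ V) ξ hV s := fun V hV s =>
    ConcreteCategory.congr_hom (TopCat.Presheaf.stalkPushforward_germ AddCommGrpCat.{u} f.base
      (Coh.structureModule X).presheaf V ξ hV) s
  have hsmall : ∀ W : X.Opens, ξ ∈ W → ∃ V : Y.Opens, f ξ ∈ V ∧ f ⁻¹ᵁ V ≤ W := fun W hW => by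
    refine ⟨⟨(f '' (W : Set X)ᶜ)ᶜ, (f.isClosedMap _ W.isOpen.isClosed_compl).isOpen_compl⟩, ?_, ?_⟩
    · rintro ⟨x, hx, hfx⟩
      exact hx (preimage_genericPoint hX hY f (hfx.trans hξ) ▸ hW)
    · intro x hx
      by_contra hxW
      exact hx ⟨x, hxW, rfl⟩
  have hbij : Function.Bijective q := by
    refine ⟨(injective_iff_map_eq_zero q).2 fun a ha => ?_, fun b => ?_⟩
    · obtain ⟨V, hV, s, rfl⟩ := G.presheaf.exists_germ_eq a
      rw [hq] at ha
      obtain ⟨W, hW, i₁, i₂, he⟩ := (Coh.structureModule X).presheaf.germ_eq ξ (U := f ⁻¹ᵁ V) (V := f ⁻¹ᵁ V) hV hV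
        s 0 (ha.trans (map_zero _).symm)
      obtain ⟨V', hV', hle⟩ := hsmall W hW
      have h0 : M1.mres G (inf_le_left : V ⊓ V' ≤ V) s = 0 := by
        have he' := he.trans (map_zero _)
        have := congrArg ((Coh.structureModule X).presheaf.map
          (homOfLE ((f.preimage_mono (inf_le_right : V ⊓ V' ≤ V')).trans hle)).op) he'
        rw [map_zero, ← CategoryTheory.comp_apply, ← Functor.map_comp] at this
        exact this
      rw [← M1.germ_mres G (inf_le_left : V ⊓ V' ≤ V) ⟨hV, hV'⟩ s, h0, map_zero]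
    · obtain ⟨W, hW, t, rfl⟩ := (Coh.structureModule X).presheaf.exists_germ_eq b
      obtain ⟨V, hV, hle⟩ := hsmall W hW
      refine ⟨G.presheaf.germ V (f ξ) hV (M1.mres (Coh.structureModule X) hle t), ?_⟩
      rw [hq]
      exact M1.germ_mres (Coh.structureModule X) hle hV t
  let ι : (Coh.structureModule X).presheaf.stalk ξ ≃ₗ[X.presheaf.stalk ξ] (X.presheaf.stalk ξ : Type u) :=
    (CurveCoh17.nonempty_stalk_equiv_structureModule ξ).some.trans (LinearEquiv.funUnique (Fin 1) _ _)
  have hsmul : ∀ (c : Y.presheaf.stalk (f ξ)) (a : G.presheaf.stalk (f ξ)),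
      q (c • a) = (f.stalkMap ξ c) • ((q a : (Coh.structureModule X).presheaf.stalk ξ)) := by
    intro c a
    obtain ⟨U, hU, c, rfl⟩ := Y.presheaf.exists_germ_eq c
    obtain ⟨V, hV, s, rfl⟩ := G.presheaf.exists_germ_eq a
    rw [← Y.presheaf.germ_res_apply (homOfLE (inf_le_left : U ⊓ V ≤ U)) (f ξ) ⟨hU, hV⟩ c,
      ← M1.germ_mres G (inf_le_right : U ⊓ V ≤ V) (x := f ξ) ⟨hU, hV⟩ s, ← M1.germ_smul, hq, hq,
      Scheme.Hom.germ_stalkMap_apply, ← M1.germ_smul]
    rfl
  let T : G.presheaf.stalk (f ξ) ≃ₗ[Y.presheaf.stalk (f ξ)] (X.presheaf.stalk ξ : Type u) :=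
    { (AddEquiv.ofBijective q hbij).trans ι.toAddEquiv with
      map_smul' := fun c a => by
        show ι (q (c • a)) = f.stalkMap ξ c * ι (q a)
        rw [hsmul, map_smul]
        rfl }
  exact T.finrank_eq

end Groth.Agent.AmpleFin18
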