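import Groth.Agent.Lib.AmpleFin18.Proj
import Groth.Agent.Lib.P1Split17.Basis
import Groth.Agent.Lib.CurveCoh17.Bases

/-!
# The projection formula for locally free modules
-/

set_option autoImplicit false
set_option linter.style.haveILetI false
set_option backward.isDefEq.respectTransparency false

universe u

open CategoryTheory Limits AlgebraicGeometry TopologicalSpace Opposite TensorProduct

namespace Groth.Agent.AmpleFin18

open Groth.Agent.M1 Groth.Agent.M2 Groth.Agent.P1Split

variable {X Y : Scheme.{u}} {r : ℕ}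

/-- A basis pulls back to a basis. -/
theorem isBas_pullback (f : Y ⟶ X) {M : X.Modules} {U : X.Opens} {e : Fin r → Γ(M, U)} (he : IsBas M U e) :
    IsBas ((Scheme.Modules.pullback f).obj M) (f ⁻¹ᵁ U) (fun i => pullSec f M (e i)) := by
  classical
  refine isBas_of_stalk fun y hy => ?_
  let q : (Fin r → X.presheaf.stalk (f y)) ≃ₗ[X.presheaf.stalk (f y)] (M.presheaf.stalk (f y) : Type u) :=
    LinearEquiv.ofBijective (Fintype.linearCombination (X.presheaf.stalk (f y))
      fun i => (M.presheaf.germ U (f y) hy (e i) : M.presheaf.stalk (f y))) (he.stalk hy)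
  let q' := (TensorProduct.piScalarRight (X.presheaf.stalk (f y)) (Y.presheaf.stalk y) (Y.presheaf.stalk y)
      (Fin r)).symm ≪≫ₗ
    TensorProduct.AlgebraTensorModule.congr (LinearEquiv.refl (Y.presheaf.stalk y) (Y.presheaf.stalk y)) q ≪≫ₗ
    pullStalkEquiv f y M
  have h1 : ∀ i, q' (Pi.single i 1) =
      ((Scheme.Modules.pullback f).obj M).presheaf.germ (f ⁻¹ᵁ U) y hy (pullSec f M (e i)) := fun i => by
    simp only [q', LinearEquiv.trans_apply, TensorProduct.piScalarRight_symm_single,
      TensorProduct.AlgebraTensorModule.congr_tmul, LinearEquiv.refl_apply]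
    rw [show q (Pi.single i 1) = (M.presheaf.germ U (f y) hy (e i) : M.presheaf.stalk (f y)) by
      simp [q]]
    exact pullStalkEquiv_tmul f y M hy (e i)
  convert q'.bijective using 1
  funext c
  conv_rhs => rw [pi_eq_sum_univ' c, map_sum]
  refine Finset.sum_congr rfl fun i _ => ?_
  rw [map_smul, h1]

/-- Multiplication by a basis identifies tuples of sections of `G` with sections of `E ⊗ G`. -/
theorem bijective_sum_tsec {E G : X.Modules} {U : X.Opens} {e : Fin r → Γ(E, U)} (he : IsBas E U e)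
    {V : X.Opens} (hV : V ≤ U) :
    Function.Bijective fun s : Fin r → Γ(G, V) => ∑ i, tsec E G (mres E hV (e i)) (s i) := by
  classical
  have hst : ∀ (x : X) (hx : x ∈ U), Function.Bijective fun a : Fin r → G.presheaf.stalk x =>
      ∑ i, (E.presheaf.germ U x hx (e i) : E.presheaf.stalk x) ⊗ₜ[X.presheaf.stalk x] a i := by
    intro x hx
    let q : (Fin r → X.presheaf.stalk x) ≃ₗ[X.presheaf.stalk x] (E.presheaf.stalk x : Type u) :=
      LinearEquiv.ofBijective (Fintype.linearCombination (X.presheaf.stalk x)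
        fun i => (E.presheaf.germ U x hx (e i) : E.presheaf.stalk x)) (he.stalk hx)
    let Φ := (TensorProduct.piScalarRight (X.presheaf.stalk x) (X.presheaf.stalk x) (G.presheaf.stalk x) (Fin r)).symm ≪≫ₗ
      TensorProduct.comm (X.presheaf.stalk x) _ _ ≪≫ₗ LinearEquiv.rTensor (G.presheaf.stalk x) q
    convert Φ.bijective using 1
    funext a
    conv_rhs => rw [← Finset.univ_sum_single a, map_sum]
    refine Finset.sum_congr rfl fun i _ => ?_
    simp [Φ, q]
  have hgerm : ∀ (W : X.Opens) (hW : W ≤ U) (x : X) (hx : x ∈ W) (s : Fin r → Γ(G, W)),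
      stalkEquiv E G x ((CohB1.tensorMod E G).presheaf.germ W x hx (∑ i, tsec E G (mres E hW (e i)) (s i))) =
        ∑ i, (E.presheaf.germ U x (hW hx) (e i) : E.presheaf.stalk x) ⊗ₜ[X.presheaf.stalk x]
          (G.presheaf.germ W x hx (s i) : G.presheaf.stalk x) := fun W hW x hx s => by
    rw [map_sum, map_sum]
    exact Finset.sum_congr rfl fun i _ => by rw [stalkEquiv_tsec, germ_mres]
  have key : ∀ (W : X.Opens) (hW : W ≤ U) (s t : Fin r → Γ(G, W)),
      ∑ i, tsec E G (mres E hW (e i)) (s i) = ∑ i, tsec E G (mres E hW (e i)) (t i) → s = t :=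
    fun W hW s t h => funext fun i => M1.section_ext _ _ fun x hx => by
      have h' := (hgerm W hW x hx s).symm.trans ((congrArg
        (fun z => stalkEquiv E G x ((CohB1.tensorMod E G).presheaf.germ W x hx z)) h).trans (hgerm W hW x hx t))
      exact congrFun ((hst x (hW hx)).1 h') i
  have hres : ∀ (W W' : X.Opens) (hW : W ≤ U) (h : W' ≤ W) (s : Fin r → Γ(G, W)),
      mres (CohB1.tensorMod E G) h (∑ i, tsec E G (mres E hW (e i)) (s i)) =
        ∑ i, tsec E G (mres E (h.trans hW) (e i)) (mres G h (s i)) := fun W W' hW h s => by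
    rw [map_sum]
    exact Finset.sum_congr rfl fun i _ =>
      (res_tsec h _ (s i)).trans (congrArg (fun z => tsec E G z (mres G h (s i))) (mres_mres E hW h (e i)))
  refine ⟨key V hV, fun z => ?_⟩
  have hloc : ∀ x : V, ∃ (W : X.Opens) (hWV : W ≤ V) (s : Fin r → Γ(G, W)), x.1 ∈ W ∧
      ∑ i, tsec E G (mres E (hWV.trans hV) (e i)) (s i) = mres (CohB1.tensorMod E G) hWV z := fun x => by
    obtain ⟨a, ha⟩ := (hst x.1 (hV x.2)).2 (stalkEquiv E G x.1 ((CohB1.tensorMod E G).presheaf.germ V x.1 x.2 z))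
    choose Wi hWi si hsi using fun i => G.presheaf.exists_germ_eq (a i)
    let W : X.Opens := ⟨(⋂ i, (Wi i : Set X)) ∩ V, (isOpen_iInter_of_finite fun i => (Wi i).2).inter V.2⟩
    have hxW : x.1 ∈ W := ⟨Set.mem_iInter.2 hWi, x.2⟩
    have hWV : W ≤ V := fun y hy => hy.2
    let s₀ : Fin r → Γ(G, W) := fun i => mres G (fun y hy => Set.mem_iInter.1 hy.1 i : W ≤ Wi i) (si i)
    have he' : (CohB1.tensorMod E G).presheaf.germ W x.1 hxW (∑ i, tsec E G (mres E (hWV.trans hV) (e i)) (s₀ i)) =
        (CohB1.tensorMod E G).presheaf.germ W x.1 hxW (mres (CohB1.tensorMod E G) hWV z) := by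
      refine (stalkEquiv E G x.1).injective ?_
      rw [hgerm, germ_mres]
      refine Eq.trans ?_ ha
      exact Finset.sum_congr rfl fun i _ => congrArg _ ((germ_mres G _ hxW (si i)).trans (hsi i))
    obtain ⟨Z, hZ, i₁, i₂, hz⟩ := (CohB1.tensorMod E G).presheaf.germ_eq x.1 hxW hxW _ _ he'
    refine ⟨Z, i₁.le.trans hWV, fun i => mres G i₁.le (s₀ i), hZ, ?_⟩
    replace hz : mres (CohB1.tensorMod E G) i₁.le (∑ i, tsec E G (mres E (hWV.trans hV) (e i)) (s₀ i)) =
        mres (CohB1.tensorMod E G) i₁.le (mres (CohB1.tensorMod E G) hWV z) := hz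
    rwa [hres, mres_mres (CohB1.tensorMod E G)] at hz
  choose W hW s hx hs using hloc
  have hcov : V ≤ ⨆ x, W x := fun x hxV => Opens.mem_iSup.2 ⟨⟨x, hxV⟩, hx _⟩
  have hglue : ∀ i, ∃ S : Γ(G, V), ∀ x, mres G (hW x) S = s x i := fun i => by
    obtain ⟨S, hS, -⟩ := TopCat.Sheaf.existsUnique_gluing' ⟨_, G.isSheaf⟩ W V (fun x => homOfLE (hW x)) hcov
      (fun x => s x i) fun x y => by
        show mres G (inf_le_left : W x ⊓ W y ≤ W x) (s x i) = mres G (inf_le_right : W x ⊓ W y ≤ W y) (s y i)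
        refine congrFun (key _ (inf_le_left.trans ((hW x).trans hV))
          (fun i => mres G inf_le_left (s x i)) (fun i => mres G inf_le_right (s y i)) ?_) i
        have ex := congrArg (mres (CohB1.tensorMod E G) (inf_le_left : W x ⊓ W y ≤ W x)) (hs x)
        have ey := congrArg (mres (CohB1.tensorMod E G) (inf_le_right : W x ⊓ W y ≤ W y)) (hs y)
        rw [hres, mres_mres] at ex ey
        exact ex.trans ey.symm
    exact ⟨S, hS⟩
  choose S hS using hglue
  refine ⟨S, modules_eq_of_locally_eq _ V W hW hcov _ _ fun x => ?_⟩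
  show mres (CohB1.tensorMod E G) (hW x) (∑ i, tsec E G (mres E hV (e i)) (S i)) =
    mres (CohB1.tensorMod E G) (hW x) z
  rw [hres]
  simp only [hS]
  exact hs x

variable (f : Y ⟶ X) (E : X.Modules) (N : Y.Modules)

theorem bijective_projHom_app_of_isBas {U : X.Opens} {e : Fin r → Γ(E, U)} (he : IsBas E U e) (V : X.Opens)
    (hV : V ≤ U) : Function.Bijective ((projHom f E N).app V) := by
  have h1 := bijective_sum_tsec (G := (Scheme.Modules.pushforward f).obj N) he hV
  have h2 := bijective_sum_tsec (G := N) (isBas_pullback f (he.mres hV)) (le_refl (f ⁻¹ᵁ V))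
  refine (Function.Bijective.of_comp_iff ((projHom f E N).app V) h1).1 ?_
  rw [show ((projHom f E N).app V ∘ fun s : Fin r → Γ((Scheme.Modules.pushforward f).obj N, V) =>
      ∑ i, tsec E ((Scheme.Modules.pushforward f).obj N) (mres E hV (e i)) (s i)) =
    fun t : Fin r → Γ(N, f ⁻¹ᵁ V) => ∑ i, tsec ((Scheme.Modules.pullback f).obj E) N
      (mres _ (le_refl (f ⁻¹ᵁ V)) (pullSec f E (mres E hV (e i)))) (t i) from funext fun t => by
        refine (map_sum ((projHom f E N).app V).hom _ _).trans (Finset.sum_congr rfl fun i _ => ?_)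
        rw [mres_id]
        exact projHom_tsec f E N (mres E hV (e i)) (t i)]
  exact h2

theorem isIso_projHom_of_locFree (hE : FlatMod.IsFinLocFree E) : IsIso (projHom f E N) := by
  rw [M1.isIso_iff_stalk]
  intro x
  obtain ⟨U, n, hxU, ⟨i⟩⟩ := hE x
  obtain ⟨D, e, hxD, he⟩ : ∃ (D : X.Opens) (e : Fin n → Γ(E, D)), x ∈ D ∧ IsBas E D e := by
    have hb := (isBas_coprod (fun _ : Fin n => Coh.structureModule (U : Scheme.{u})) (fun _ => one ⊤)
      fun _ => isGen_one ⊤).map_iso i.symm
    exact ⟨U.ι ''ᵁ ⊤, _, ⟨⟨x, hxU⟩, trivial, rfl⟩, isBas_of_restrict U.ι E hb⟩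
  exact CurveCoh17.bijective_stalkMap_of_app _ D (bijective_projHom_app_of_isBas f E N he) hxD

theorem isIso_projHom_of_ofRank {n : ℕ} (hE : FlatMod.IsFinLocFreeOfRank n E) : IsIso (projHom f E N) := by
  rw [M1.isIso_iff_stalk]
  intro x
  obtain ⟨D, e, hxD, he⟩ := P1Split.exists_isBas_nhd hE x
  exact CurveCoh17.bijective_stalkMap_of_app _ D (bijective_projHom_app_of_isBas f E N he) hxD

end Groth.Agent.AmpleFin18
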