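import Groth.Agent.Lib.AmpleFin18.PushEuler

/-!
# Degree of a pullback along a birational map in dimension at most one
-/

set_option autoImplicit false
set_option linter.style.haveILetI false
set_option maxHeartbeats 800000
set_option backward.isDefEq.respectTransparency false

universe u

open CategoryTheory Limits AlgebraicGeometry TopologicalSpace Opposite

namespace Groth.Agent.AmpleFin18

variable {X Y : Scheme.{u}}

/-- A maximal point lies in every dense open subset. -/
theorem mem_of_maximal [IsNoetherian X] {g : X} (hg : ∀ y, y ⤳ g → y = g) {U : X.Opens}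
    (hU : Dense (U : Set X)) : g ∈ U := by
  let T : Set X := {h | ∀ y, y ⤳ h → y = h} \ {g}
  have hO : IsOpen (⋃ h ∈ T, closure ({h} : Set X))ᶜ :=
    (((CurveCoh17.finite_maximal (X := X)).subset Set.diff_subset).isClosed_biUnion
      fun h _ => isClosed_closure).isOpen_compl
  have hgO : g ∈ (⋃ h ∈ T, closure ({h} : Set X))ᶜ := fun hmem => by
    obtain ⟨h, hT, hh⟩ := Set.mem_iUnion₂.1 hmem
    exact hT.2 (hg h (specializes_iff_mem_closure.2 hh))
  obtain ⟨z, hzO, hzU⟩ := hU.inter_open_nonempty _ hO ⟨g, hgO⟩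
  obtain ⟨h, hhz, hh⟩ := CurveCoh17.exists_maximal_generization z
  by_cases he : h = g
  · exact (he ▸ hhz).mem_open U.isOpen hzU
  · exact absurd (Set.mem_iUnion₂.2 ⟨h, ⟨hh, he⟩, specializes_iff_mem_closure.1 hhz⟩) hzO

/-- A proper map which is an isomorphism over an open with dense preimage is finite, in dimension one. -/
theorem isFinite_of_iso_over [IsNoetherian Y] (hd : topologicalKrullDim Y ≤ 1) (hd' : topologicalKrullDim X ≤ 1)
    (f : Y ⟶ X) [IsProper f] (U : X.Opens) (hU' : Dense ((f ⁻¹ᵁ U : Y.Opens) : Set Y))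
    [IsIso (f ∣_ U)] [IsNoetherian X] (hU : Dense (U : Set X)) : IsFinite f := by
  haveI : LocallyQuasiFinite f := LocallyQuasiFinite.of_finite_preimage_singleton f fun x => by
    by_cases hx : x ∈ U
    · refine Set.Subsingleton.finite fun a ha b hb => ?_
      have haU : a ∈ f ⁻¹ᵁ U := show f a ∈ U by rw [Set.mem_singleton_iff.1 ha]; exact hx
      have hbU : b ∈ f ⁻¹ᵁ U := show f b ∈ U by rw [Set.mem_singleton_iff.1 hb]; exact hx
      have h := (ConcreteCategory.bijective_of_isIso (f ∣_ U).base).1 (a₁ := ⟨a, haU⟩) (a₂ := ⟨b, hbU⟩)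
        (Subtype.ext (by simp only [morphismRestrict_base_coe]; exact ha.trans hb.symm))
      exact congrArg Subtype.val h
    · obtain ⟨S₀, hS₀, hcl₀⟩ := CurveCoh17.exists_finset_closedPoints hd' (C := (U : Set X)ᶜ)
        U.isOpen.isClosed_compl fun g hg hgC => hgC (mem_of_maximal hg hU)
      have hcl : IsClosed (f ⁻¹' {x}) := (hcl₀ x (Finset.mem_coe.1 (hS₀ ▸ hx : x ∈ (S₀ : Set X)))).preimage f.continuous
      obtain ⟨S, hS, -⟩ := CurveCoh17.exists_finset_closedPoints hd hcl fun g hg hgC => hx (by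
        have : g ∈ f ⁻¹ᵁ U := mem_of_maximal hg hU'
        rw [← Set.mem_singleton_iff.1 hgC]
        exact this)
      exact hS ▸ S.finite_toSet
  exact IsFinite.of_isProper_of_locallyQuasiFinite f

/-- The structure map `O ⟶ f_* O`. -/
noncomputable def pushUnit (f : Y ⟶ X) :
    Coh.structureModule X ⟶ (Scheme.Modules.pushforward f).obj (Coh.structureModule Y) :=
  M1.secHom (M1.one (f ⁻¹ᵁ ⊤))

theorem pushUnit_app (f : Y ⟶ X) (V : X.Opens) (r : Γ(X, V)) :
    (pushUnit f).app V r = f.app V r := by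
  have h1 : (pushUnit f).app V (M1.one V) = M1.one (f ⁻¹ᵁ V) := by
    rw [← M1.mres_one (le_top : V ≤ ⊤), M1.app_mres, pushUnit, M1.secHom_app_one]
    exact M1.mres_one (f.preimage_mono (le_top : V ≤ ⊤))
  have h2 : (r : Γ(Coh.structureModule X, V)) = r • M1.one V := (mul_one (r : Γ(X, V))).symm
  refine (congrArg (fun z => (pushUnit f).app V z) h2).trans ?_
  rw [Scheme.Modules.Hom.app_smul, h1]
  exact mul_one (f.app V r : Γ(Y, f ⁻¹ᵁ V))

theorem bijective_pushUnit_app (f : Y ⟶ X) (U : X.Opens) [IsIso (f ∣_ U)] (V : X.Opens) (hV : V ≤ U) :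
    Function.Bijective ((pushUnit f).app V) := by
  have h : ((pushUnit f).app V : _ → _) = fun r => f.app V r := funext (pushUnit_app f V)
  rw [h]
  have hV' : U.ι ''ᵁ (U.ι ⁻¹ᵁ V) = V := by
    rw [U.ι.image_preimage_eq_opensRange_inf, Scheme.Opens.opensRange_ι]
    exact inf_eq_right.2 hV
  have h1 : IsIso ((f ∣_ U).app (U.ι ⁻¹ᵁ V)) := inferInstance
  rw [morphismRestrict_app] at h1
  haveI h2 : IsIso (f.app (U.ι ''ᵁ (U.ι ⁻¹ᵁ V))) := IsIso.of_isIso_comp_right _ (Y.presheaf.map
    (eqToHom (image_morphismRestrict_preimage f U (U.ι ⁻¹ᵁ V))).op)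
  rw [hV'] at h2
  exact ConcreteCategory.bijective_of_isIso (f.app V)

variable {k : Type u} [Field k] [X.Over (Spec (CommRingCat.of k))]
  [Y.Over (Spec (CommRingCat.of k))]

theorem deg_pullback_birational [IsProper (X ↘ Spec (CommRingCat.of k))]
    [IsProper (Y ↘ Spec (CommRingCat.of k))] (hd : topologicalKrullDim X ≤ 1) (hd' : topologicalKrullDim Y ≤ 1)
    (f : Y ⟶ X) (hf : f ≫ (X ↘ Spec (CommRingCat.of k)) = Y ↘ Spec (CommRingCat.of k))
    (U : X.Opens) (hU : Dense (U : Set X)) (hU' : Dense ((f ⁻¹ᵁ U : Y.Opens) : Set Y)) [IsIso (f ∣_ U)]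
    {n : ℕ} {E : X.Modules} (hE : FlatMod.IsFinLocFreeOfRank n E) :
    Curv2.deg k Y ((Scheme.Modules.pullback f).obj E) n = Curv2.deg k X E n := by
  have hX := CurveAmple18.curveLike k X hd
  haveI := hX.noetherian
  haveI := hX.separated
  haveI := (CurveAmple18.curveLike k Y hd').noetherian
  haveI : IsProper (f ≫ (X ↘ Spec (CommRingCat.of k))) := by rw [hf]; infer_instance
  haveI : IsProper f := IsProper.of_comp f (X ↘ Spec (CommRingCat.of k))
  haveI : IsFinite f := isFinite_of_iso_over hd' hd f U hU' hU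
  have hG : Coh.IsCoh ((Scheme.Modules.pushforward f).obj (Coh.structureModule Y)) :=
    Cyc26.isCoh_push_finite f (M1.isCoh_structureModule Y)
  obtain ⟨S, hS, hScl⟩ := CurveCoh17.exists_finset_closedPoints hd (C := (U : Set X)ᶜ)
    U.isOpen.isClosed_compl fun g hg hgC => hgC (mem_of_maximal hg hU)
  have hUS : ∀ x : X, x ∉ S → x ∈ U := fun x hx => by
    by_contra hxU
    exact hx (Finset.mem_coe.1 (hS ▸ hxU : x ∈ (S : Set X)))
  obtain ⟨h1, h2⟩ := CurveCoh17.suppIn_kernel_cokernel (pushUnit f) hScl hUS (bijective_pushUnit_app f U)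
  have hO := M1.isCoh_structureModule X
  have key := CurveCoh17.euler_sub_tensor (k := k) (pushUnit f) (hX.adm hO) (hX.adm hG) h1 h2 E
    (CurveCoh17.nonempty_stalk_equiv hE) (hX.adm (CurveCoh17.isCoh_tensor hO (CurveCoh17.isCoh_of_ofRank hE)))
  haveI := isIso_projHom_of_ofRank f E (Coh.structureModule Y) hE
  have hFE : Coh.IsQCoh ((Scheme.Modules.pullback f).obj E) :=
    M1.isQCoh_pullback f (CurveCoh17.isCoh_of_ofRank hE).1
  have e1 : Curv2.euler k X (CohB1.tensorMod ((Scheme.Modules.pushforward f).obj (Coh.structureModule Y)) E) =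
      Curv2.euler k Y ((Scheme.Modules.pullback f).obj E) := by
    rw [CurveCoh17.euler_iso (M2.tensorComm _ E ≪≫ asIso (projHom f E (Coh.structureModule Y))),
      ← euler_push f hf _ hFE]
    exact CurveCoh17.euler_iso ((Scheme.Modules.pushforward f).mapIso (M2.tensorRUnit _))
  have e2 : Curv2.euler k X (CohB1.tensorMod (Coh.structureModule X) E) = Curv2.euler k X E :=
    CurveCoh17.euler_iso (M2.tensorComm _ E ≪≫ M2.tensorRUnit E)
  rw [e1, e2, euler_push f hf _ (M1.isQCoh_structureModule Y)] at key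
  rw [Curv2.deg, Curv2.deg]
  linear_combination key

end Groth.Agent.AmpleFin18
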