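import Groth.Agent.Lib.AmpleFin18.Crit
import Groth.Agent.Lib.Ample18.Avoid
import Groth.Agent.Lib.RedSep.Basic
import Mathlib.AlgebraicGeometry.IdealSheaf.IrreducibleComponent
import Mathlib.AlgebraicGeometry.IdealSheaf.Functorial

/-!
# Ampleness and irreducible components
-/

set_option autoImplicit false
set_option linter.style.haveILetI false
set_option backward.isDefEq.respectTransparency false

universe u

open CategoryTheory Limits AlgebraicGeometry TopologicalSpace Opposite

namespace Groth.Agent.AmpleFin18

open Groth.Agent.CohFound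

variable {X : Scheme.{u}} {L : X.Modules}

/-- A morphism from a reduced scheme landing in the support of an ideal factors through its subscheme. -/
theorem exists_lift_of_range_subset {Z : Scheme.{u}} [IsReduced Z] (i : Z ⟶ X) (I : X.IdealSheafData)
    (h : Set.range i ⊆ (I.support : Set X)) : ∃ j : Z ⟶ I.subscheme, j ≫ I.subschemeι = i := by
  have h0 : I.comap i = ⊥ := by
    rw [← Scheme.IdealSheafData.support_eq_top_iff, Scheme.IdealSheafData.support_comap]
    exact SetLike.coe_injective (Set.eq_univ_of_forall fun z => h ⟨z, rfl⟩)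
  have hk : I.subschemeι.ker ≤ i.ker := by
    rw [Scheme.IdealSheafData.ker_subschemeι, ← Scheme.IdealSheafData.map_bot, ← h0]
    exact Scheme.IdealSheafData.le_map_comap _ _
  exact ⟨IsClosedImmersion.lift I.subschemeι i hk, IsClosedImmersion.lift_fac _ _ _⟩

/-- Ampleness of a restriction to a closed subscheme passes to the reduced schemes inside it. -/
theorem isAmple_pullback_of_range_subset {Z : Scheme.{u}} [IsReduced Z] (i : Z ⟶ X) [IsClosedImmersion i]
    (I : X.IdealSheafData) (h : Set.range i ⊆ (I.support : Set X))
    (hI : CohB1.IsAmple ((Scheme.Modules.pullback I.subschemeι).obj L)) :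
    CohB1.IsAmple ((Scheme.Modules.pullback i).obj L) := by
  obtain ⟨j, hj⟩ := exists_lift_of_range_subset i I h
  haveI : IsClosedImmersion (j ≫ I.subschemeι) := hj ▸ inferInstance
  haveI : IsClosedImmersion j := IsClosedImmersion.of_comp j I.subschemeι
  rw [← RA.isAmple_pullback_congr hj, ← RA.isAmple_pullback_comp_iff]
  exact Amp.isAmple_pullback_of_isAffineHom j hI

/-- On an affine scheme every invertible module is ample. -/
theorem isAmple_of_isAffine [IsAffine X] (hL : PicF.IsInvertible L) : CohB1.IsAmple L := by
  refine Amp.isAmple_iff.2 ⟨hL, inferInstance, fun x => ?_⟩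
  have hP := Amp.isInvertible_tensorPow hL 1
  haveI : (CohB1.tensorPow L 1).IsQuasicoherent := Twist.isQCoh_of_isInvertible hP
  obtain ⟨g, hg⟩ := Amp.exists_stalk_gen hP x
  obtain ⟨c, m, hc, hm⟩ := M1.exists_germ_smul_eq (CohB1.tensorPow L 1) (isAffineOpen_top X) (Set.mem_univ x) g
  let φ := M1.secHom m
  have hx : x ∈ CohB1.genLocus (CohB1.tensorPow L 1) φ := by
    rw [Amp.mem_genLocus_iff hP, Amp.gval_secHom]
    show Amp.Gen ((CohB1.tensorPow L 1).presheaf.germ ⊤ x trivial m)
    rw [← hm]
    exact (hg.ne_zero_smul _).2 hc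
  refine ⟨0, _, ⟨φ, rfl⟩, hx, ?_⟩
  have := Amp.isAffineOpen_inf_hasSec hL (n := 1) ⟨φ, rfl⟩ (isAffineOpen_top X)
  rwa [inf_top_eq] at this

theorem exists_component {Z : Scheme.{u}} [IrreducibleSpace Z] (i : Z ⟶ X) :
    ∃ C ∈ irreducibleComponents X, Set.range i ⊆ C := by
  refine exists_mem_irreducibleComponents_subset_of_isIrreducible _ ?_
  rw [← Set.image_univ]
  exact (IrreducibleSpace.isIrreducible_univ Z).image i i.continuous.continuousOn

variable {A : Type u} [CommRing A] [IsNoetherianRing A]

/-- Ample iff ample on every reduced irreducible component. -/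
theorem isAmple_iff_components (q : X ⟶ Spec (CommRingCat.of A)) [IsProper q] (hL : PicF.IsInvertible L) :
    CohB1.IsAmple L ↔ ∀ Z : Closeds X, (Z : Set X) ∈ irreducibleComponents X →
      CohB1.IsAmple ((Scheme.Modules.pullback (Scheme.IdealSheafData.vanishingIdeal Z).subschemeι).obj L) := by
  refine ⟨fun h Z _ => Amp.isAmple_pullback_of_isAffineHom _ h, fun h => isAmple_of_integral q hL fun W i hi hW => ?_⟩
  haveI := hi
  haveI := hW
  obtain ⟨C, hC, hiC⟩ := exists_component i
  refine isAmple_pullback_of_range_subset i _ ?_ (h ⟨C, isClosed_of_mem_irreducibleComponents C hC⟩ hC)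
  rwa [Scheme.IdealSheafData.coe_support_vanishingIdeal]

/-- Ample on two subschemes whose ideals multiply to zero. -/
theorem isAmple_of_mul_eq_bot (q : X ⟶ Spec (CommRingCat.of A)) [IsProper q] (hL : PicF.IsInvertible L)
    (I J : X.IdealSheafData) (hIJ : I * J = ⊥)
    (hI : CohB1.IsAmple ((Scheme.Modules.pullback I.subschemeι).obj L))
    (hJ : CohB1.IsAmple ((Scheme.Modules.pullback J.subschemeι).obj L)) : CohB1.IsAmple L := by
  refine isAmple_of_integral q hL fun W i hi hW => ?_
  haveI := hi
  haveI := hW
  have hcov : Set.range i ⊆ (I.support : Set X) ∪ (J.support : Set X) := fun x _ => by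
    have h : x ∈ (I * J).support := by
      rw [hIJ, Scheme.IdealSheafData.support_bot]
      trivial
    rw [Scheme.IdealSheafData.support_mul] at h
    exact h
  have hirr : IsIrreducible (Set.range i) := by
    rw [← Set.image_univ]
    exact (IrreducibleSpace.isIrreducible_univ W).image i i.continuous.continuousOn
  rcases isPreirreducible_iff_isClosed_union_isClosed.1 hirr.isPreirreducible _ _ I.support.isClosed
      J.support.isClosed hcov with h | h
  · exact isAmple_pullback_of_range_subset i I h hI
  · exact isAmple_pullback_of_range_subset i J h hJ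

end Groth.Agent.AmpleFin18
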