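import Groth.Agent.Lib.AmpleFin18.Proj
import Groth.Agent.Lib.CohFound.DevissageExt
import Groth.Agent.Lib.CohFound.AmpleCrit
import Groth.Agent.Lib.CohFound.RelVan
import Groth.Agent.Lib.CohFound.ProperFinite
import Groth.Agent.Lib.RelAmple18.Basic
import Groth.Agent.Lib.Cyc26.PushFin
import Groth.Agent.Lib.ModM1.Ann

/-!
# Ampleness is detected on integral closed subschemes
-/

set_option autoImplicit false
set_option linter.style.haveILetI false
set_option backward.isDefEq.respectTransparency false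

universe u

open CategoryTheory Limits AlgebraicGeometry TopologicalSpace Opposite

namespace Groth.Agent.AmpleFin18

open Groth.Agent.CohFound

variable {X Y : Scheme.{u}} {L : X.Modules}

/-- `H^p(M ⊗ L^n) = 0` for all large `n`. -/
def Van (L M : X.Modules) (p : ℕ) : Prop :=
  ∃ n₀ : ℕ, ∀ n, n₀ ≤ n →
    Subsingleton (Hc ((abF X).obj (CohB1.tensorMod M (CohB1.tensorPow L n))) p ⊤)

theorem Van.of_iso {M N : X.Modules} {p : ℕ} (e : M ≅ N) (h : Van L M p) : Van L N p := by
  obtain ⟨n₀, hn₀⟩ := h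
  exact ⟨n₀, fun n hn => subsingleton_hc_of_iso (M2.tensorIso e (Iso.refl _)) p ⊤ (hn₀ n hn)⟩

theorem Van.mid (hL : PicF.IsInvertible L) {S : ShortComplex X.Modules} (hS : S.ShortExact) {p : ℕ}
    (h₁ : Van L S.X₁ p) (h₃ : Van L S.X₃ p) : Van L S.X₂ p := by
  obtain ⟨a, ha⟩ := h₁
  obtain ⟨b, hb⟩ := h₃
  refine ⟨max a b, fun n hn => ?_⟩
  have hT := shortExact_abF (shortExact_tensor_invertible hS (Amp.isInvertible_tensorPow hL n))
  refine subsingleton_of_forall_eq 0 fun x => ?_
  obtain ⟨y, hy⟩ := exact₂ hT p ⊤ x (@Subsingleton.elim _ (hb n (le_of_max_le_right hn)) _ _)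
  exact hy.symm.trans ((congrArg _ (@Subsingleton.elim _ (ha n (le_of_max_le_left hn)) y 0)).trans (map_zero _))

theorem Van.right (hL : PicF.IsInvertible L) {S : ShortComplex X.Modules} (hS : S.ShortExact) {p : ℕ}
    (h₁ : Van L S.X₁ (p + 1)) (h₂ : Van L S.X₂ p) : Van L S.X₃ p := by
  obtain ⟨a, ha⟩ := h₁
  obtain ⟨b, hb⟩ := h₂
  refine ⟨max a b, fun n hn => ?_⟩
  have hT := shortExact_abF (shortExact_tensor_invertible hS (Amp.isInvertible_tensorPow hL n))
  refine subsingleton_of_forall_eq 0 fun x => ?_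
  obtain ⟨y, hy⟩ := exact₃ hT p ⊤ x (@Subsingleton.elim _ (ha n (le_of_max_le_left hn)) _ _)
  exact hy.symm.trans ((congrArg _ (@Subsingleton.elim _ (hb n (le_of_max_le_right hn)) y 0)).trans (map_zero _))

/-- Vanishing for direct images along affine morphisms. -/
theorem Van.push (hL : PicF.IsInvertible L) (f : Y ⟶ X) [IsAffineHom f] {N : Y.Modules} (hN : Coh.IsQCoh N)
    {p : ℕ} (h : Van ((Scheme.Modules.pullback f).obj L) N p) :
    Van L ((Scheme.Modules.pushforward f).obj N) p := by
  obtain ⟨a, ha⟩ := h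
  refine ⟨a, fun n hn => ?_⟩
  have hE := Amp.isInvertible_tensorPow hL n
  let P := CohB1.tensorMod N ((Scheme.Modules.pullback f).obj (CohB1.tensorPow L n))
  have : P.IsQuasicoherent := M2.isQCoh_tensor hN (M1.isQCoh_pullback f (Twist.isQCoh_of_isInvertible hE))
  obtain ⟨e⟩ := nonempty_hc_push_isAffineHom f P p ⊤
  have h' : Subsingleton (Hc ((abF Y).obj P) p (f ⁻¹ᵁ ⊤)) :=
    subsingleton_hc_of_iso (M2.tensorIso (Iso.refl N) (M2.pullTensorPowIso f L n)).symm p ⊤ (ha n hn)
  exact subsingleton_hc_of_iso (projIso f _ N hE).symm p ⊤ (@Equiv.subsingleton _ _ e.toEquiv h')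

variable {A : Type u} [CommRing A] [IsNoetherianRing A]

theorem van_of_isAmple (q : X ⟶ Spec (CommRingCat.of A)) [IsProper q] (hL : CohB1.IsAmple L)
    {M : X.Modules} (hM : Coh.IsCoh M) {p : ℕ} (hp : 0 < p) : Van L M p := by
  obtain ⟨n₀, hn₀⟩ := exists_vanishing_all q hL hM
  exact ⟨n₀, fun n hn => hn₀ n hn p hp⟩

/-- Vanishing from ampleness on all integral closed subschemes. -/
theorem van_of_integral (q : X ⟶ Spec (CommRingCat.of A)) [IsProper q] (hL : PicF.IsInvertible L)
    (h : ∀ (Z : Scheme.{u}) (i : Z ⟶ X), IsClosedImmersion i → IsIntegral Z →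
      CohB1.IsAmple ((Scheme.Modules.pullback i).obj L))
    [Nonempty X] {M : X.Modules} (hM : Coh.IsCoh M) {p : ℕ} (hp : 0 < p) : Van L M p := by
  haveI := isNoetherian_of_isProper q
  refine holds_of_extensions (fun M => Van L M p) (fun M N ⟨e⟩ h => h.of_iso e)
    (fun S hS _ _ _ h₁ h₃ => h₁.mid hL hS h₃) (fun Z i hi hZ I ι hι hI => ?_) hM
  haveI := hi
  haveI : IsLocallyNoetherian Z := LocallyOfFiniteType.isLocallyNoetherian i
  exact Van.push hL i hI (van_of_isAmple (i ≫ q) (h Z i hi hZ)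
    (M1.isCoh_of_mono ι (M1.isCoh_structureModule Z) hI) hp)

/-- Ampleness is detected on integral closed subschemes. -/
theorem isAmple_of_integral (q : X ⟶ Spec (CommRingCat.of A)) [IsProper q] (hL : PicF.IsInvertible L)
    (h : ∀ (Z : Scheme.{u}) (i : Z ⟶ X), IsClosedImmersion i → IsIntegral Z →
      CohB1.IsAmple ((Scheme.Modules.pullback i).obj L)) : CohB1.IsAmple L := by
  haveI := isNoetherian_of_isProper q
  rcases isEmpty_or_nonempty X with hX | hX
  · exact Amp.isAmple_iff.2 ⟨hL, inferInstance, fun x => isEmptyElim x⟩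
  exact isAmple_of_vanishing hL fun M hM => van_of_integral q hL h hM one_pos

/-- Vanishing for modules with small support, from ampleness on the smaller closed subschemes. -/
theorem van_of_support (q : X ⟶ Spec (CommRingCat.of A)) [IsProper q] (hL : PicF.IsInvertible L)
    (h : ∀ (Z : Scheme.{u}) (i : Z ⟶ X), IsClosedImmersion i → IsIntegral Z → Set.range i ≠ Set.univ →
      CohB1.IsAmple ((Scheme.Modules.pullback i).obj L))
    {M : X.Modules} (hM : Coh.IsCoh M) (hsupp : CohB1.support M ≠ Set.univ) {p : ℕ} (hp : 0 < p) :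
    Van L M p := by
  haveI := isNoetherian_of_isProper q
  let I := M1.annSheaf hM.1 hM.2
  let j := I.subschemeι
  have := M1.isIso_unit_of_ker_smul j M hM.1 fun U a ha s => by
    rw [Scheme.IdealSheafData.ker_subschemeι] at ha
    rw [M1.annSheaf_ideal] at ha
    exact Module.mem_annihilator.1 ha s
  have hr : Set.range j = CohB1.support M := by
    rw [Scheme.IdealSheafData.range_subschemeι]
    exact M1.support_annSheaf hM.1 hM.2
  have hamp : CohB1.IsAmple ((Scheme.Modules.pullback j).obj L) :=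
    isAmple_of_integral (j ≫ q) (Twist.isInvertible_pullback j hL) fun Z i hi hZ => by
      rw [RA.isAmple_pullback_comp_iff]
      exact h Z (i ≫ j) inferInstance hZ fun he => hsupp (by
        rw [← hr]
        exact Set.eq_univ_of_forall fun x => by
          obtain ⟨z, hz⟩ := he.ge (Set.mem_univ x)
          exact ⟨i z, hz⟩)
  exact (Van.push hL j (M1.isQCoh_pullback j hM.1) (van_of_isAmple (j ≫ q) hamp
    (M1.isCoh_pullback j hM) hp)).of_iso
      (asIso ((Scheme.Modules.pullbackPushforwardAdjunction j).unit.app M)).symm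

/-- Cohomology vanishes in high degrees. -/
theorem exists_van_bound (q : X ⟶ Spec (CommRingCat.of A)) [IsProper q] (hL : PicF.IsInvertible L) :
    ∃ d : ℕ, ∀ M : X.Modules, Coh.IsCoh M → ∀ p, d ≤ p → Van L M p := by
  haveI := isNoetherian_of_isProper q
  obtain ⟨d, hd⟩ := exists_vanishing_bound_compact (X := X) (U := ⊤) isCompact_univ
  exact ⟨d, fun M hM p hp => ⟨0, fun n _ => hd _ (M2.isQCoh_tensor hM.1
    (Twist.isQCoh_of_isInvertible (Amp.isInvertible_tensorPow hL n))) p hp⟩⟩

end Groth.Agent.AmpleFin18
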