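import Groth.Agent.Lib.AmpleFin18.Components
import Groth.Agent.Lib.CurveAmple18.Main
import Groth.Agent.Lib.CurveCoh17.Twist

/-!
# Ampleness on proper schemes of dimension at most one
-/

set_option autoImplicit false
set_option linter.style.haveILetI false
set_option backward.isDefEq.respectTransparency false

universe u

open CategoryTheory Limits AlgebraicGeometry TopologicalSpace Opposite

namespace Groth.Agent.AmpleFin18

variable {X : Scheme.{u}} {L : X.Modules}

theorem dim_subscheme (I : X.IdealSheafData) {C : Set X} (h : (I.support : Set X) = C) :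
    topologicalKrullDim I.subscheme = topologicalKrullDim C := by
  let e : I.subscheme ≃ₜ C := I.subschemeι.isEmbedding.toHomeomorph.trans
    (Homeomorph.setCongr (by rw [Scheme.IdealSheafData.range_subschemeι]; exact h))
  exact IsHomeomorph.topologicalKrullDim_eq e e.isHomeomorph

theorem isIntegral_of_irreducible (Z : Closeds X) (hZ : IsIrreducible (Z : Set X)) :
    IsIntegral (Scheme.IdealSheafData.vanishingIdeal Z).subscheme := by
  let I := Scheme.IdealSheafData.vanishingIdeal Z
  haveI : IsReduced I.subscheme := RedSepLib.isReduced_vanishingIdeal_subscheme _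
  have hr : Set.range I.subschemeι = (Z : Set X) := by
    rw [Scheme.IdealSheafData.range_subschemeι, Scheme.IdealSheafData.coe_support_vanishingIdeal]
  let e : I.subscheme ≃ₜ (Z : Set X) := I.subschemeι.isEmbedding.toHomeomorph.trans (Homeomorph.setCongr hr)
  have h : IsIrreducible (Set.univ : Set I.subscheme) := by
    obtain ⟨z, hz⟩ := hZ.1
    obtain ⟨w, hw⟩ := hr.ge hz
    refine ⟨⟨w, trivial⟩, fun u v hu hv ⟨a, _, ha⟩ ⟨b, _, hb⟩ => ?_⟩
    obtain ⟨u', hu', rfl⟩ := I.subschemeι.isEmbedding.isInducing.isOpen_iff.1 hu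
    obtain ⟨v', hv', rfl⟩ := I.subschemeι.isEmbedding.isInducing.isOpen_iff.1 hv
    obtain ⟨c, hcZ, hcu, hcv⟩ := hZ.2 u' v' hu' hv' ⟨_, hr.le ⟨a, rfl⟩, ha⟩ ⟨_, hr.le ⟨b, rfl⟩, hb⟩
    obtain ⟨d, rfl⟩ := hr.ge hcZ
    exact ⟨d, trivial, hcu, hcv⟩
  haveI : IrreducibleSpace I.subscheme :=
    { toPreirreducibleSpace := ⟨h.isPreirreducible⟩, toNonempty := ⟨h.nonempty.some⟩ }
  exact isIntegral_of_irreducibleSpace_of_isReduced _

theorem isAffine_of_dim_le_zero [IrreducibleSpace X] (hd : topologicalKrullDim X ≤ 0) : IsAffine X := by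
  haveI : Subsingleton X := ⟨fun a b => by
    have key : ∀ z : X, z = genericPoint X := fun z => by
      by_contra hne
      have h1 := Order.height_add_one_le (VarDim.lt_of_specializes_ne (genericPoint_specializes z) hne)
      have h2 : (Order.height (genericPoint X) : WithBot ℕ∞) ≤ ((0 : ℕ∞) : WithBot ℕ∞) :=
        (ProjDeg17.height_le_dim_of_mem isClosed_univ (Set.mem_univ _)).trans
          (Topology.IsInducing.subtypeVal.topologicalKrullDim_le.trans hd)
      have h3 := h1.trans (WithBot.coe_le_coe.1 h2)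
      exact one_ne_zero (nonpos_iff_eq_zero.1 (le_trans le_add_self h3))
    rw [key a, key b]⟩
  obtain ⟨U, hU, hxU, -⟩ := exists_isAffineOpen_mem_and_subset (x := genericPoint X) (U := ⊤) trivial
  have : U = ⊤ := top_le_iff.1 fun x _ => Subsingleton.elim (genericPoint X) x ▸ hxU
  subst this
  haveI : IsAffine ((⊤ : X.Opens) : Scheme.{u}) := hU
  exact IsAffine.of_isIso (Scheme.topIso X).inv

theorem le_zero_of_le_one {d : WithBot ℕ∞} (h : d ≤ 1) (h1 : d ≠ 1) : d ≤ 0 := by
  induction d with
  | bot => exact bot_le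
  | coe e =>
    refine WithBot.coe_le_coe.2 ?_
    exact ENat.lt_one_iff_eq_zero.1 (lt_of_le_of_ne (WithBot.coe_le_coe.1 h) fun he => h1 (by rw [he]; rfl)) |>.le

/-- On a proper scheme of dimension at most one, ample means positive degree on the curves among the
components. -/
theorem isAmple_iff_deg_pos (k : Type u) [Field k] [X.Over (Spec (CommRingCat.of k))]
    [IsProper (X ↘ (Spec (CommRingCat.of k)))] (hdim : topologicalKrullDim X ≤ 1) (hL : PicF.IsInvertible L) :
    CohB1.IsAmple L ↔ ∀ Z : Closeds X, (Z : Set X) ∈ irreducibleComponents X →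
      topologicalKrullDim (Z : Set X) = 1 →
        0 < @Curv2.deg k _ (Scheme.IdealSheafData.vanishingIdeal Z).subscheme
          ⟨(Scheme.IdealSheafData.vanishingIdeal Z).subschemeι ≫ (X ↘ (Spec (CommRingCat.of k)))⟩
          ((Scheme.Modules.pullback (Scheme.IdealSheafData.vanishingIdeal Z).subschemeι).obj L) 1 := by
  have hd : ∀ Z : Closeds X, topologicalKrullDim (Scheme.IdealSheafData.vanishingIdeal Z).subscheme =
      topologicalKrullDim (Z : Set X) := fun Z =>
    dim_subscheme _ (Scheme.IdealSheafData.coe_support_vanishingIdeal _)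
  rw [isAmple_iff_components (X ↘ (Spec (CommRingCat.of k))) hL]
  refine ⟨fun h Z hZ h1 => ?_, fun h Z hZ => ?_⟩
  · let I := Scheme.IdealSheafData.vanishingIdeal Z
    letI : I.subscheme.Over (Spec (CommRingCat.of k)) := ⟨I.subschemeι ≫ (X ↘ (Spec (CommRingCat.of k)))⟩
    haveI : IsProper (I.subscheme ↘ (Spec (CommRingCat.of k))) :=
      inferInstanceAs (IsProper (I.subschemeι ≫ (X ↘ (Spec (CommRingCat.of k)))))
    haveI := isIntegral_of_irreducible Z hZ.1
    exact CurveAmple18.deg_pos_of_isAmple ((hd Z).trans h1) (h Z hZ)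
  · let I := Scheme.IdealSheafData.vanishingIdeal Z
    letI : I.subscheme.Over (Spec (CommRingCat.of k)) := ⟨I.subschemeι ≫ (X ↘ (Spec (CommRingCat.of k)))⟩
    haveI : IsProper (I.subscheme ↘ (Spec (CommRingCat.of k))) :=
      inferInstanceAs (IsProper (I.subschemeι ≫ (X ↘ (Spec (CommRingCat.of k)))))
    haveI := isIntegral_of_irreducible Z hZ.1
    have hLI := Twist.isInvertible_pullback I.subschemeι hL
    have hle : topologicalKrullDim (Z : Set X) ≤ 1 :=
      (Topology.IsInducing.subtypeVal.topologicalKrullDim_le).trans hdim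
    by_cases h1 : topologicalKrullDim (Z : Set X) = 1
    · exact CurveAmple18.isAmple_of_deg_pos ((hd Z).trans h1).le hLI (h Z hZ h1)
    · haveI : IsAffine I.subscheme := isAffine_of_dim_le_zero (by
        rw [hd Z]
        exact le_zero_of_le_one hle h1)
      exact isAmple_of_isAffine hLI

end Groth.Agent.AmpleFin18
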