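import Groth.Agent.Lib.AmpleFin18.Nakai

/-!
# Generation of the powers of a module along the divisor of a section
-/

set_option autoImplicit false
set_option linter.style.haveILetI false
set_option maxHeartbeats 1000000
set_option backward.isDefEq.respectTransparency false

universe u

open CategoryTheory CategoryTheory.Limits AlgebraicGeometry TopologicalSpace Opposite

namespace Groth.Agent.AmpleFin18

open Groth.Agent.CurveCoh17 (hmap hdelta hequiv hh0 hh0_hmap exact_hmap_hmap exact_hmap_hdelta exact_hdelta_hmap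
  stalkLin stalkLin_secHom secSC secSC_shortExact)
open Groth.Agent.M1 (secHom)

variable {X : Scheme.{u}} {L : X.Modules}

/-- Vanishing for modules supported in a set, from ampleness on the integral closed subschemes in it. -/
theorem van_of_support_subset {A : Type u} [CommRing A] [IsNoetherianRing A] (q : X ⟶ Spec (CommRingCat.of A))
    [IsProper q] (hL : PicF.IsInvertible L) {S : Set X}
    (h : ∀ (Z : Scheme.{u}) (i : Z ⟶ X), IsClosedImmersion i → IsIntegral Z → Set.range i ⊆ S →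
      CohB1.IsAmple ((Scheme.Modules.pullback i).obj L))
    {M : X.Modules} (hM : Coh.IsCoh M) (hsupp : CohB1.support M ⊆ S) {p : ℕ} (hp : 0 < p) :
    Van L M p := by
  haveI := CohFound.isNoetherian_of_isProper q
  let I := M1.annSheaf hM.1 hM.2
  let j := I.subschemeι
  have := M1.isIso_unit_of_ker_smul j M hM.1 fun U a ha s => by
    rw [Scheme.IdealSheafData.ker_subschemeι] at ha
    rw [M1.annSheaf_ideal] at ha
    exact Module.mem_annihilator.1 ha s
  have hr : Set.range j = CohB1.support M := by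
    rw [Scheme.IdealSheafData.range_subschemeι]
    exact M1.support_annSheaf hM.1 hM.2
  have hamp : CohB1.IsAmple ((Scheme.Modules.pullback j).obj L) :=
    isAmple_of_integral (j ≫ q) (Twist.isInvertible_pullback j hL) fun Z i hi hZ => by
      rw [RA.isAmple_pullback_comp_iff]
      exact h Z (i ≫ j) inferInstance hZ fun x hx => hsupp (hr ▸ by
        obtain ⟨z, rfl⟩ := hx
        exact ⟨i z, rfl⟩)
  exact (Van.push hL j (M1.isQCoh_pullback j hM.1) (van_of_isAmple (j ≫ q) hamp
    (M1.isCoh_pullback j hM) hp)).of_iso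
      (asIso ((Scheme.Modules.pullbackPushforwardAdjunction j).unit.app M)).symm

variable (k : Type u) [Field k] [X.Over (Spec (CommRingCat.of k))] [IsProper (X ↘ Spec (CommRingCat.of k))]

include k in
/-- A power with an injective section has all large powers generated at each closed point outside its locus. -/
theorem exists_gen_eventually {M : X.Modules} (hM : PicF.IsInvertible M) (s : Γ(M, (⊤ : X.Opens)))
    [Mono (secHom s)]
    (hvan : ∀ F : X.Modules, Coh.IsCoh F → CohB1.support F ⊆ CohB1.support (cokernel (secHom s)) → Van M F 1)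
    {x : X} (hxc : IsClosed ({x} : Set X)) (hx : x ∉ CohB1.genLocus M (secHom s)) :
    ∃ N : ℕ, ∀ q, N ≤ q → ∃ G : X.Opens, Amp.HasSec M q G ∧ x ∈ G := by
  classical
  haveI : IsNoetherian X := CohFound.isNoetherian_of_isProper (X ↘ (Spec (CommRingCat.of k)))
  have hMc := Snapper.isCoh_of_isInvertible hM
  have hr1 := (M2.isInvertible_iff_isFinLocFreeOfRank_one M).1 hM
  let Q := cokernel (secHom s)
  let π : M ⟶ Q := cokernel.π _
  have hQ : Coh.IsCoh Q := M1.isCoh_cokernel (M1.isCoh_structureModule X).1 hMc _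
  let N : Submodule (X.presheaf.stalk x) (Q.presheaf.stalk x) := IsLocalRing.maximalIdeal (X.presheaf.stalk x) • ⊤
  have hA : Coh.IsCoh (CohFound.cutAt Q x N) := CohFound.isCoh_cutAt' Q x N hQ fun g hg =>
    ⟨1, fun a => by rw [pow_one]; exact Submodule.smul_mem_smul hg trivial⟩
  let κ := CohFound.cutι Q x N
  let Q₂ := cokernel κ
  let π₂ : Q ⟶ Q₂ := cokernel.π _
  have hQ₂supp : ∀ y ≠ x, ∀ q : Q₂.presheaf.stalk y, q = 0 := fun y hy q => by
    obtain ⟨b, rfl⟩ := CohFound.stL_surjective_of_epi π₂ y q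
    obtain ⟨V, hV, t, rfl⟩ := Q.presheaf.exists_germ_eq b
    let W : X.Opens := V ⊓ ⟨{x}ᶜ, hxc.isOpen_compl⟩
    obtain ⟨f, hf⟩ := (CohFound.exists_cutι_iff Q x N (M1.mres Q (inf_le_left : W ≤ V) t)).2
      fun hη => absurd rfl hη.2
    rw [← M1.germ_mres Q (inf_le_left : W ≤ V) (x := y) ⟨hV, hy⟩ t, ← hf, ← CohFound.stL_germ,
      ← CohFound.stL_comp, cokernel.condition, CohFound.stL_zero]
  have hkill : ∀ c ∈ IsLocalRing.maximalIdeal (X.presheaf.stalk x), ∀ q : Q₂.presheaf.stalk x, c • q = 0 :=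
    fun c hc q => by
      obtain ⟨b, rfl⟩ := CohFound.stL_surjective_of_epi π₂ x q
      obtain ⟨e, he⟩ := (CohFound.range_stL_cutι Q x N).ge (Submodule.smul_mem_smul hc (Submodule.mem_top (x := b)))
      rw [← map_smul, ← he, ← CohFound.stL_comp, cokernel.condition, CohFound.stL_zero]
  -- the image of a generator in `Q₂` is not zero
  obtain ⟨g, hg⟩ := Amp.exists_stalk_gen hM x
  have himg : ∀ a, stalkLin (secHom s) x a ∈
      (IsLocalRing.maximalIdeal (X.presheaf.stalk x) • ⊤ : Submodule (X.presheaf.stalk x) (M.presheaf.stalk x)) :=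
    fun a => by
    obtain ⟨d, -, hd⟩ := stalkLin_secHom s x a
    obtain ⟨α, hα⟩ := hg.2 (Amp.gm M x (U := ⊤) trivial s)
    simp only at hα
    have hαm : α ∈ IsLocalRing.maximalIdeal (X.presheaf.stalk x) := fun hu => hx ((Amp.mem_genLocus_iff hM _).2 (by
      rw [Amp.gval_secHom, ← hα]
      exact (hg.ne_zero_smul _).2 hu))
    rw [hd]
    refine Submodule.smul_mem _ d ?_
    show Amp.gm M x (U := ⊤) trivial s ∈ _
    rw [← hα]
    exact Submodule.smul_mem_smul hαm Submodule.mem_top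
  have hq₂ : CohFound.stL π₂ x (CohFound.stL π x g) ≠ 0 := fun h0 => by
    have hS₂ : (ShortComplex.mk κ π₂ (cokernel.condition _)).Exact := ShortComplex.exact_cokernel _
    obtain ⟨e, he⟩ := M1.exact_elem hS₂ x _ h0
    have hmem : CohFound.stL π x g ∈ N := (CohFound.range_stL_cutι Q x N).le ⟨e, he⟩
    have hN' : N ≤ Submodule.map (CohFound.stL π x) (IsLocalRing.maximalIdeal (X.presheaf.stalk x) • ⊤) := by
      rw [Submodule.map_smul'', Submodule.map_top, LinearMap.range_eq_top.2 (CohFound.stL_surjective_of_epi π x)]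
    obtain ⟨v, hv, hvg⟩ := hN' hmem
    have hS₁ : (ShortComplex.mk (secHom s) π (cokernel.condition _)).Exact := ShortComplex.exact_cokernel _
    obtain ⟨a, ha⟩ := M1.exact_elem hS₁ x (g - v) (by
      show CohFound.stL π x (g - v) = 0
      rw [map_sub, hvg, sub_self])
    refine CohFound.not_gen_of_mem ?_ hg
    rw [← sub_add_cancel g v, ← ha]
    exact Submodule.add_mem _ (himg a) hv
  -- the twist
  obtain ⟨n₁, hn₁⟩ := hvan _ hA (CohFound.support_subset_of_mono κ)
  obtain ⟨n₂, hn₂⟩ := hvan Q hQ subset_rfl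
  let a : ℕ → ℕ := fun m => Module.finrank k (Coh.HH X (CohB1.tensorPow M m) 1)
  let T : ℕ → ShortComplex X.Modules := fun m => (secSC s).map (M2.tensorR (CohB1.tensorPow M m))
  have hTc : ∀ m, Coh.IsCoh (CohB1.tensorPow M m) := fun m =>
    Snapper.isCoh_of_isInvertible (M2.isInvertible_tensorPow hM m)
  have hT : ∀ m, (T m).ShortExact := fun m => CurveCoh17.shortExact_tensorR (secSC_shortExact s) _
    (Snapper.flat_stalk (M2.isInvertible_tensorPow hM m))
  let e₁ : ∀ m, (T m).X₁ ≅ CohB1.tensorPow M m := fun m => M2.tensorLUnit _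
  let e₂ : ∀ m, (T m).X₂ ≅ CohB1.tensorPow M (m + 1) := fun m => M2.tensorComm M (CohB1.tensorPow M m)
  have hsurj : ∀ m, n₂ ≤ m → Function.Surjective (hmap k (T m).f 1) := fun m hm x => by
    haveI : Subsingleton (Coh.HH X (T m).X₃ 1) := (CohFound.subsingleton_HH_iff _ _).2 (hn₂ m hm)
    exact (exact_hmap_hmap k (hT m) 1 x).1 (Subsingleton.elim _ _)
  have hanti : ∀ m, n₂ ≤ m → a (m + 1) ≤ a m := fun m hm => by
    haveI : Module.Finite k (Coh.HH X (T m).X₁ 1) :=
      CohFound.finite_HH_of_isProper (A := k) _ (CurveCoh17.isCoh_tensor (M1.isCoh_structureModule X) (hTc m)) 1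
    have h' := LinearMap.finrank_le_finrank_of_surjective (f := hmap k (T m).f 1) (hsurj m hm)
    rw [(hequiv k (e₁ m) 1).finrank_eq, (hequiv k (e₂ m) 1).finrank_eq] at h'
    exact h'
  have hex : ∃ v, ∃ m, n₂ ≤ m ∧ a m = v := ⟨_, n₂, le_rfl, rfl⟩
  obtain ⟨m₀, hm₀, hv⟩ := Nat.find_spec hex
  have hmono : ∀ m, m₀ ≤ m → a m ≤ a m₀ := fun m hm => by
    induction m, hm using Nat.le_induction with
    | base => exact le_rfl
    | succ m hm ih => exact (hanti m (hm₀.trans hm)).trans ih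
  refine ⟨max n₁ m₀ + 1, fun q hq => ?_⟩
  obtain ⟨m, rfl⟩ : ∃ m, q = m + 1 := ⟨q - 1, by omega⟩
  have hm₁ : n₁ ≤ m := (le_max_left _ _).trans (Nat.le_of_succ_le_succ hq)
  have hm₀' : m₀ ≤ m := (le_max_right _ _).trans (Nat.le_of_succ_le_succ hq)
  have hm₂ : n₂ ≤ m := hm₀.trans hm₀'
  have hm : a m ≤ a (m + 1) := by
    refine (hmono m hm₀').trans ?_
    rw [hv]
    exact Nat.find_min' hex ⟨m + 1, hm₂.trans (Nat.le_succ _), rfl⟩
  haveI : Module.Finite k (Coh.HH X (T m).X₁ 1) :=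
    CohFound.finite_HH_of_isProper (A := k) _ (CurveCoh17.isCoh_tensor (M1.isCoh_structureModule X) (hTc m)) 1
  haveI : Module.Finite k (Coh.HH X (T m).X₂ 1) :=
    CohFound.finite_HH_of_isProper (A := k) _ (CurveCoh17.isCoh_tensor hMc (hTc m)) 1
  have hinj : Function.Injective (hmap k (T m).f 1) := by
    refine (LinearMap.injective_iff_surjective_of_finrank_eq_finrank ?_).2 (hsurj m hm₂)
    refine le_antisymm ?_ (LinearMap.finrank_le_finrank_of_surjective (f := hmap k (T m).f 1) (hsurj m hm₂))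
    rw [(hequiv k (e₁ m) 1).finrank_eq, (hequiv k (e₂ m) 1).finrank_eq]
    exact hm
  let E := CohB1.tensorPow M m
  have hE : PicF.IsInvertible E := M2.isInvertible_tensorPow hM m
  have hS₂e : ((ShortComplex.mk κ π₂ (cokernel.condition _)).map (M2.tensorR E)).ShortExact :=
    CurveCoh17.shortExact_tensorR { exact := ShortComplex.exact_cokernel _ } E (Snapper.flat_stalk hE)
  have hsub : Subsingleton (Coh.HH X (CohB1.tensorMod (CohFound.cutAt Q x N) E) 1) :=
    (CohFound.subsingleton_HH_iff _ _).2 (hn₁ m hm₁)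
  obtain ⟨gE, hgE⟩ := Amp.exists_stalk_gen hE x
  have hsuppT : CohB1.support (CohB1.tensorMod Q₂ E) ⊆ {x} := fun y hy => by
    by_contra h'
    exact (M1.notMem_support_iff Q₂ y).2 (hQ₂supp y h') (Snapper.support_tensor_subset Q₂ E hy)
  obtain ⟨σ, hσ⟩ := CohFound.exists_global_of_support hxc hsuppT
    ((M2.stalkEquiv Q₂ E x).symm (CohFound.stL π₂ x (CohFound.stL π x g) ⊗ₜ gE))
  obtain ⟨τ, hτ⟩ := surjective_app_top_of_injective k hS₂e (fun _ _ _ => hsub.elim _ _) σ
  obtain ⟨w, hw⟩ := surjective_app_top_of_injective k (hT m) hinj τ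
  refine ⟨_, Amp.hasSec_of_iso (e₂ m) (secHom w), ?_⟩
  have hinv : PicF.IsInvertible (T m).X₂ := M2.isInvertible_tensor hM hE
  rw [Amp.mem_genLocus_iff hinv, Amp.gval_secHom]
  by_contra hng
  obtain ⟨gT, hgT⟩ := Amp.exists_stalk_gen hinv x
  obtain ⟨c, hc⟩ := hgT.2 (Amp.gm _ x (U := ⊤) trivial w)
  simp only at hc
  have hcm : c ∈ IsLocalRing.maximalIdeal (X.presheaf.stalk x) := fun hu =>
    hng (hc ▸ (hgT.ne_zero_smul c).2 hu)
  have himgw : stalkLin ((M2.tensorR E).map π₂) x (stalkLin (T m).g x (Amp.gm _ x (U := ⊤) trivial w)) =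
      (M2.stalkEquiv Q₂ E x).symm (CohFound.stL π₂ x (CohFound.stL π x g) ⊗ₜ gE) := by
    rw [← hσ, ← hτ, ← hw]
    exact (congrArg _ (M1.germ_naturality (T m).g ⊤ x trivial w)).trans
      (M1.germ_naturality ((M2.tensorR E).map π₂) ⊤ x trivial _)
  rw [← hc, map_smul, map_smul] at himgw
  have h0 : c • stalkLin ((M2.tensorR E).map π₂) x (stalkLin (T m).g x gT) = 0 := by
    refine (M2.stalkEquiv Q₂ E x).injective ?_
    rw [map_smul, map_zero]
    induction M2.stalkEquiv Q₂ E x (stalkLin ((M2.tensorR E).map π₂) x (stalkLin (T m).g x gT))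
      using TensorProduct.induction_on with
    | zero => rw [smul_zero]
    | tmul p q => rw [TensorProduct.smul_tmul', hkill c hcm p, TensorProduct.zero_tmul]
    | add a b ha hb => rw [smul_add, ha, hb, add_zero]
  rw [h0] at himgw
  have ht := (M2.stalkEquiv Q₂ E x).symm.injective ((map_zero _).trans himgw)
  let eg := (LinearEquiv.ofBijective (LinearMap.toSpanSingleton (X.presheaf.stalk x) (E.presheaf.stalk x) gE) hgE).symm
  refine hq₂ ?_
  have := congrArg ((TensorProduct.rid _ _).toLinearMap.comp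
    (LinearMap.lTensor (Q₂.presheaf.stalk x) eg.toLinearMap)) ht.symm
  rw [map_zero, LinearMap.comp_apply, LinearMap.lTensor_tmul, LinearEquiv.coe_coe, LinearEquiv.coe_coe,
    TensorProduct.rid_tmul, show eg gE = 1 from (LinearEquiv.symm_apply_eq _).2
      (by simp [LinearMap.toSpanSingleton_apply]), one_smul] at this
  exact this

include k in
/-- The powers of a module whose restriction to the divisor of a section is ample are generated. -/
theorem eventually_gen_of_section {M : X.Modules} (hM : PicF.IsInvertible M) (s : Γ(M, (⊤ : X.Opens)))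
    [Mono (secHom s)]
    (hvan : ∀ F : X.Modules, Coh.IsCoh F → CohB1.support F ⊆ CohB1.support (cokernel (secHom s)) → Van M F 1) :
    ∃ N : ℕ, ∀ q, N ≤ q → ∀ y : X, ∃ G : X.Opens, Amp.HasSec M q G ∧ y ∈ G := by
  classical
  haveI : IsNoetherian X := CohFound.isNoetherian_of_isProper (X ↘ (Spec (CommRingCat.of k)))
  let Ω : Set X := {y | ∃ (j : ℕ) (G : X.Opens), (∀ q, j ≤ q → Amp.HasSec M q G) ∧ y ∈ G}
  have hΩ : IsOpen Ω := isOpen_iff_forall_mem_open.2 fun y ⟨j, G, hG, hy⟩ =>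
    ⟨G, fun z hz => ⟨j, G, hG, hz⟩, G.isOpen, hy⟩
  have hs0 : ∀ q : ℕ, 0 < q → Amp.HasSec M q (CohB1.genLocus M (secHom s)) := fun q hq => by
    obtain ⟨c, rfl⟩ : ∃ c, q = c + 1 := ⟨q - 1, by omega⟩
    exact ((Amp.hasSec_of_iso (M2.tensorPowOne M).symm (secHom s)).powPow hM c).of_eq (one_mul _)
  have hall : ∀ y, ∃ (j : ℕ) (G : X.Opens), (∀ q, j ≤ q → Amp.HasSec M q G) ∧ y ∈ G := by
    by_contra hne
    push Not at hne
    obtain ⟨y, hy⟩ := hne
    obtain ⟨x, hxΩ, hxc⟩ := IsClosed.exists_closed_singleton hΩ.isClosed_compl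
      ⟨y, fun ⟨j, G, hG, hyG⟩ => hy j G hG hyG⟩
    refine hxΩ ?_
    by_cases hx : x ∈ CohB1.genLocus M (secHom s)
    · exact ⟨1, _, fun q hq => hs0 q hq, hx⟩
    obtain ⟨N, hN⟩ := exists_gen_eventually k hM s hvan hxc hx
    obtain ⟨G₀, hG₀, hx₀⟩ := hN (N + 1) (Nat.le_succ N)
    obtain ⟨G₁, hG₁, hx₁⟩ := hN (N + 2) (by omega)
    refine ⟨(2 * N + 3) * (N + 1), G₀ ⊓ G₁, fun q hq => ?_, hx₀, hx₁⟩
    have hr : q % (N + 1) < N + 1 := Nat.mod_lt q (Nat.succ_pos N)
    have hdiv := Nat.mod_add_div q (N + 1)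
    have hb : 2 * N + 3 ≤ q / (N + 1) := (Nat.le_div_iff_mul_le (Nat.succ_pos N)).2 hq
    obtain ⟨a, ha⟩ := Nat.exists_eq_add_of_le (show q % (N + 1) + N + 3 ≤ q / (N + 1) by omega)
    refine ((hG₀.powPow hM a).inf hM (hG₁.powPow hM (q % (N + 1) + N))).of_eq ?_
    rw [ha] at hdiv
    conv_rhs => rw [← hdiv]
    ring
  choose j G hG hyG using hall
  obtain ⟨T, hT⟩ := isCompact_univ.elim_finite_subcover (fun y : X => (G y : Set X)) (fun y => (G y).isOpen)
    fun y _ => Set.mem_iUnion.2 ⟨y, hyG y⟩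
  refine ⟨T.sup j, fun q hq z => ?_⟩
  obtain ⟨y, hy, hz⟩ := Set.mem_iUnion₂.1 (hT (Set.mem_univ z))
  exact ⟨G y, hG y q ((Finset.le_sup hy).trans hq), hz⟩

end Groth.Agent.AmpleFin18
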