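import Groth.Agent.Lib.AmpleFin18.Curves
import Groth.Agent.Lib.AmpleImm18.Core
import Groth.Agent.Lib.AmpleImm18.Over
import Groth.Agent.Lib.AmpleImm18.PoleFun
import Groth.Agent.Lib.CohFound.FiniteFibre
import Groth.Agent.Lib.Snapper.Hilb
import Groth.Agent.Lib.RelAmple18.Generated

/-!
# Generated invertible modules that are ample on the curves
-/

set_option autoImplicit false
set_option linter.style.haveILetI false
set_option backward.isDefEq.respectTransparency false

universe u

open CategoryTheory CategoryTheory.Limits AlgebraicGeometry TopologicalSpace Opposite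

namespace Groth.Agent.AmpleFin18

variable {X : Scheme.{u}} {L : X.Modules}

theorem mem_natCast_or_top (a : WithBot ℕ∞) (n : ℕ) (h0 : 0 ≤ a) (hn : a ≤ (n : WithBot ℕ∞)) :
    ∃ d : ℕ, a = (d : WithBot ℕ∞) := by
  induction a using WithBot.recBotCoe with
  | bot => exact absurd h0 (by simp)
  | coe a =>
    induction a using ENat.recTopCoe with
    | top =>
      rw [show ((n : ℕ) : WithBot ℕ∞) = (((n : ℕ) : ℕ∞) : WithBot ℕ∞) from rfl, WithBot.coe_le_coe] at hn
      exact absurd (top_le_iff.1 hn) (ENat.natCast_ne_top n)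
    | coe a => exact ⟨a, rfl⟩

/-- A closed set of dimension `d` contains a point whose closure has dimension `d`. -/
theorem exists_point_dim {C : Set X} (hC : IsClosed C) {d : ℕ}
    (hd : topologicalKrullDim C = (d : WithBot ℕ∞)) :
    ∃ w ∈ C, topologicalKrullDim (closure ({w} : Set X)) = (d : WithBot ℕ∞) := by
  obtain ⟨p, hp⟩ := Order.le_krullDim_iff.1 hd.ge
  let T : IrreducibleCloseds C := p.last
  have hTc : IsClosed (Subtype.val '' (T : Set C)) :=
    hC.isClosedEmbedding_subtypeVal.isClosedMap _ T.isClosed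
  obtain ⟨w, hw⟩ := QuasiSober.sober (T.isIrreducible.image _ continuous_subtype_val.continuousOn) hTc
  have hwC : w ∈ C := by
    have : w ∈ Subtype.val '' (T : Set C) := hw ▸ subset_closure rfl
    obtain ⟨y, -, rfl⟩ := this
    exact y.2
  have hsub : closure ({w} : Set X) ⊆ C := hC.closure_subset_iff.2 (Set.singleton_subset_iff.2 hwC)
  refine ⟨w, hwC, le_antisymm (Snapper.dim_le_of_subset hsub hd.le) ?_⟩
  refine Snapper.length_le_of_subset_range (Topology.IsEmbedding.inclusion hsub).isInducing (n := d)
    (fun j => p ⟨j.1, by omega⟩)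
    (fun a b h => p.strictMono (show (⟨a.1, _⟩ : Fin (p.length + 1)) < ⟨b.1, _⟩ from h)) fun j => ?_
  rw [Set.range_inclusion]
  intro y hy
  have h2 : y ∈ (T : Set C) := p.monotone (show (⟨j.1, by omega⟩ : Fin (p.length + 1)) ≤ Fin.last p.length from
    Fin.le_last _) hy
  change (y : X) ∈ closure ({w} : Set X)
  rw [hw.def]
  exact ⟨y, h2, rfl⟩

variable (k : Type u) [Field k] [X.Over (Spec (CommRingCat.of k))] [IsProper (X ↘ Spec (CommRingCat.of k))]

include k in
/-- Below a point which is not closed there is a curve. -/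
theorem exists_curve_below {η : X} (h : ¬ IsClosed ({η} : Set X)) :
    ∃ z ∈ closure ({η} : Set X), topologicalKrullDim (closure ({z} : Set X)) = 1 := by
  obtain ⟨n, hn⟩ := Snapper.exists_dim_le k X
  haveI : Nonempty (closure ({η} : Set X)) := ⟨⟨η, subset_closure rfl⟩⟩
  haveI : Nonempty (IrreducibleCloseds (closure ({η} : Set X))) :=
    ⟨⟨closure {Classical.arbitrary _}, isIrreducible_singleton.closure, isClosed_closure⟩⟩
  obtain ⟨d, hd⟩ := mem_natCast_or_top (topologicalKrullDim (closure ({η} : Set X))) n Order.krullDim_nonneg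
    (Topology.IsInducing.subtypeVal.topologicalKrullDim_le.trans hn)
  induction d using Nat.strong_induction_on generalizing η with
  | _ d IH =>
  rcases d with _ | _ | d
  · exact absurd (Snapper.isClosed_point_of_dim_le_zero isClosed_closure hd.le (subset_closure rfl)) h
  · exact ⟨η, subset_closure rfl, by simpa using hd⟩
  · obtain ⟨C, hC, hCsub, -, hCd⟩ := Snapper.exists_closed_of_dim_eq (η := η) (r := d + 1) hd
    obtain ⟨w, hw, hwd⟩ := exists_point_dim hC hCd
    have hw' : ¬ IsClosed ({w} : Set X) := fun hc => by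
      rw [hc.closure_eq] at hwd
      haveI : Subsingleton ({w} : Set X) := Set.subsingleton_coe _ |>.2 Set.subsingleton_singleton
      haveI : Nonempty ({w} : Set X) := ⟨⟨w, rfl⟩⟩
      haveI : Subsingleton (IrreducibleCloseds ({w} : Set X)) := ⟨fun a b => by
        refine IrreducibleCloseds.ext (Set.ext fun y => ?_)
        obtain ⟨x1, hx1⟩ := a.isIrreducible.nonempty
        obtain ⟨x2, hx2⟩ := b.isIrreducible.nonempty
        exact ⟨fun _ => Subsingleton.elim x2 y ▸ hx2, fun _ => Subsingleton.elim x1 y ▸ hx1⟩⟩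
      have h0 : topologicalKrullDim ({w} : Set X) ≤ 0 := Order.krullDim_nonpos_of_subsingleton
      rw [hwd] at h0
      exact absurd h0 (by exact_mod_cast Nat.not_succ_le_zero d)
    haveI : Nonempty (closure ({w} : Set X)) := ⟨⟨w, subset_closure rfl⟩⟩
    haveI : Nonempty (IrreducibleCloseds (closure ({w} : Set X))) :=
      ⟨⟨closure {Classical.arbitrary _}, isIrreducible_singleton.closure, isClosed_closure⟩⟩
    obtain ⟨z, hz, hzd⟩ := IH (d + 1) (Nat.lt_succ_self _) hw' inferInstance inferInstance hwd
    exact ⟨z, closure_minimal (Set.singleton_subset_iff.2 (hCsub hw)) isClosed_closure hz, hzd⟩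

include k in
/-- An invertible module generated by its sections which is ample on the curves is ample. -/
theorem isAmple_of_gen_of_curves (hL : PicF.IsInvertible L)
    (hgen : ∀ x : X, ∃ t : Coh.structureModule X ⟶ L, x ∈ CohB1.genLocus L t)
    (hC : ∀ C : X.IdealSheafData, IsIntegral C.subscheme → topologicalKrullDim (C.support : Set X) = 1 →
      CohB1.IsAmple ((Scheme.Modules.pullback C.subschemeι).obj L)) :
    CohB1.IsAmple L := by
  classical
  haveI : IsNoetherian X := CohFound.isNoetherian_of_isProper (X ↘ (Spec (CommRingCat.of k)))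
  choose t ht using hgen
  obtain ⟨T, hT⟩ := isCompact_univ.elim_finite_subcover (fun x : X => (CohB1.genLocus L (t x) : Set X))
    (fun x => (CohB1.genLocus L (t x)).isOpen) fun x _ => Set.mem_iUnion.2 ⟨x, ht x⟩
  have hcov : ⨆ x : T, CohB1.genLocus L (t x.1) = ⊤ := eq_top_iff.2 fun y _ => by
    obtain ⟨x, hx, hy⟩ := Set.mem_iUnion₂.1 (hT (Set.mem_univ y))
    exact Opens.mem_iSup.2 ⟨⟨x, hx⟩, hy⟩
  obtain ⟨n, j, D, hj, ⟨τ⟩, -, hch⟩ := AmpleImm18.exists_map_of_sections (X ↘ Spec (CommRingCat.of k)) hL
    (fun x : T => CohB1.genLocus L (t x.1)) hcov (fun x => Amp.gval (t x.1))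
    (fun x y => (Amp.mem_genLocus_iff hL (t x.1)).symm) (fun _ => ∅)
    (fun x a ha => absurd ha (Finset.notMem_empty a))
  haveI : IsProper (j ≫ CohB1.ProjSpace.toSpec n k) := hj ▸ inferInstance
  haveI : IsProper j := IsProper.of_comp j (CohB1.ProjSpace.toSpec n k)
  -- fibres over closed points are finite
  have hfib : ∀ x : X, IsClosed ({x} : Set X) → (j.base ⁻¹' {j x}).Finite := by
    intro x hx
    have hp : IsClosed ({j x} : Set (CohB1.ProjSpace n k)) := by
      simpa using j.isClosedMap _ hx
    refine AmpleImm18.finite_of_forall_isClosed (hp.preimage j.continuous) fun η hη => by_contra fun hcl => ?_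
    obtain ⟨z, hz, hzd⟩ := exists_curve_below k hcl
    obtain ⟨xi, hxi⟩ : ∃ xi : T, η ∈ CohB1.genLocus L (t xi.1) := Opens.mem_iSup.1 (hcov.ge trivial)
    let C : X.IdealSheafData :=
      Scheme.IdealSheafData.vanishingIdeal ⟨closure ({z} : Set X), isClosed_closure⟩
    have hCs : (C.support : Set X) = closure {z} := Scheme.IdealSheafData.coe_support_vanishingIdeal _
    haveI : IsIntegral C.subscheme := isIntegral_of_irreducible _ isIrreducible_singleton.closure
    have hsubG : ∀ y ∈ (C.support : Set X), y ∈ CohB1.genLocus L (t xi.1) := by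
      intro y hy
      have hy' : y ∈ j.base ⁻¹' {j x} := by
        have hz' : z ∈ j.base ⁻¹' {j x} :=
          closure_minimal (Set.singleton_subset_iff.2 hη) (hp.preimage j.continuous) hz
        exact closure_minimal (Set.singleton_subset_iff.2 hz') (hp.preimage j.continuous) (hCs ▸ hy)
      obtain ⟨hD, -, -⟩ := hch xi
      rw [← hD] at hxi ⊢
      change j y ∈ D xi
      rw [show j y = j x from hy', ← show j η = j x from hη]
      exact hxi
    letI : C.subscheme.Over (Spec (CommRingCat.of k)) := ⟨C.subschemeι ≫ (X ↘ (Spec (CommRingCat.of k)))⟩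
    haveI : IsProper (C.subscheme ↘ (Spec (CommRingCat.of k))) :=
      inferInstanceAs (IsProper (C.subschemeι ≫ (X ↘ (Spec (CommRingCat.of k)))))
    have hdim : topologicalKrullDim C.subscheme = 1 := (dim_subscheme C hCs).trans hzd
    have hpos := CurveAmple18.deg_pos_of_isAmple (k := k) hdim (hC C inferInstance (hCs ▸ hzd))
    let e0 := (PicLoc.pullbackStructureIso C.subschemeι).symm
    have htop : CohB1.genLocus ((Scheme.Modules.pullback C.subschemeι).obj L)
        (e0.hom ≫ (Scheme.Modules.pullback C.subschemeι).map (t xi.1)) = ⊤ := by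
      rw [Amp.genLocus_pullback C.subschemeι hL _ e0]
      refine eq_top_iff.2 fun y _ => hsubG _ ?_
      rw [← Scheme.IdealSheafData.range_subschemeι]
      exact ⟨y, rfl⟩
    haveI := CurveAmple18.isIso_of_genLocus_eq_top (PicLoc.isInvertible_pullback C.subschemeι hL) _ htop
    rw [← CurveCoh17.deg_iso (asIso (e0.hom ≫ (Scheme.Modules.pullback C.subschemeι).map (t xi.1))),
      CurveCoh17.deg_structureModule] at hpos
    exact lt_irrefl _ hpos
  haveI : LocallyQuasiFinite j := by
    rw [← Scheme.Hom.quasiFiniteLocus_eq_top_iff]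
    by_contra hne
    have hne' : ((j.quasiFiniteLocus : Set X)ᶜ).Nonempty := by
      rw [Set.nonempty_compl]
      exact fun h => hne (SetLike.coe_injective h)
    obtain ⟨x, hx, hxc⟩ := IsClosed.exists_closed_singleton j.quasiFiniteLocus.isOpen.isClosed_compl hne'
    exact hx (CohFound.quasiFiniteAt_of_finite_fibre j x (hfib x hxc))
  haveI : IsFinite j := IsFinite.of_isProper_of_locallyQuasiFinite _
  refine Amp.isAmple_of_iso τ (Amp.isAmple_pullback_of_isAffineHom j ?_)
  exact Twist.isAmple_twist (CohB1.polyGrading n k) _ (fun i => ProjSpace.X_mem' n k i)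
    (ProjSpace.irrelevant_le_span n k) (d := 1) one_pos

end Groth.Agent.AmpleFin18
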