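import Groth.Agent.Lib.AmpleFin18.Crit
import Groth.Agent.Lib.AmpleFin18.GenCurves
import Groth.Agent.Lib.EulerAdd18.Basic
import Groth.Agent.Lib.Snapper.Main

/-!
# The induction step of the Nakai criterion
-/

set_option autoImplicit false
set_option linter.style.haveILetI false
set_option maxHeartbeats 1000000
set_option backward.isDefEq.respectTransparency false

universe u

open CategoryTheory CategoryTheory.Limits AlgebraicGeometry TopologicalSpace Opposite Filter

namespace Groth.Agent.AmpleFin18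

open Groth.Agent.CurveCoh17 (hmap hdelta hequiv hh0 hh0_hmap exact_hmap_hmap exact_hmap_hdelta exact_hdelta_hmap
  finrank_eq_range_add_range stalkLin stalkLin_secHom secSC secSC_shortExact)
open Groth.Agent.M1 (secHom)

variable {X : Scheme.{u}} {L : X.Modules}

section Algebra

variable {k : Type u} [Field k] {V W : Type*} [AddCommGroup V] [Module k V] [AddCommGroup W] [Module k W]

theorem finrank_range_of_subsingleton (f : V →ₗ[k] W) [Subsingleton V] :
    Module.finrank k (LinearMap.range f) = 0 := by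
  haveI : Subsingleton (LinearMap.range f) := f.surjective_rangeRestrict.subsingleton
  exact Module.finrank_zero_of_subsingleton

theorem finrank_range_to_subsingleton (f : V →ₗ[k] W) [Subsingleton W] :
    Module.finrank k (LinearMap.range f) = 0 :=
  Module.finrank_zero_of_subsingleton

end Algebra

variable (k : Type u) [Field k] [X.Over (Spec (CommRingCat.of k))] [IsProper (X ↘ Spec (CommRingCat.of k))]

section SES

variable {S : ShortComplex X.Modules} (hS : S.ShortExact)

include hS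

theorem finrank_mid_eq_right (h₂ : Coh.IsCoh S.X₂) (h₃ : Coh.IsCoh S.X₃) {p : ℕ}
    [Subsingleton (Coh.HH X S.X₁ p)] [Subsingleton (Coh.HH X S.X₁ (p + 1))] :
    Module.finrank k (Coh.HH X S.X₂ p) = Module.finrank k (Coh.HH X S.X₃ p) := by
  haveI := CohFound.finite_HH_of_isProper (A := k) S.X₂ h₂ p
  haveI := CohFound.finite_HH_of_isProper (A := k) S.X₃ h₃ p
  rw [finrank_eq_range_add_range _ _ (exact_hmap_hmap k hS p),
    finrank_eq_range_add_range _ _ (exact_hmap_hdelta k hS p),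
    finrank_range_of_subsingleton (hmap k S.f p), finrank_range_to_subsingleton (hdelta k hS p)]
  omega

theorem finrank_left_eq_mid (h₁ : Coh.IsCoh S.X₁) (h₂ : Coh.IsCoh S.X₂) {p : ℕ}
    [Subsingleton (Coh.HH X S.X₃ p)] [Subsingleton (Coh.HH X S.X₃ (p + 1))] :
    Module.finrank k (Coh.HH X S.X₁ (p + 1)) = Module.finrank k (Coh.HH X S.X₂ (p + 1)) := by
  haveI := CohFound.finite_HH_of_isProper (A := k) S.X₁ h₁ (p + 1)
  haveI := CohFound.finite_HH_of_isProper (A := k) S.X₂ h₂ (p + 1)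
  rw [finrank_eq_range_add_range _ _ (exact_hdelta_hmap k hS p),
    finrank_eq_range_add_range _ _ (exact_hmap_hmap k hS (p + 1)),
    finrank_range_of_subsingleton (hdelta k hS p), finrank_range_to_subsingleton (hmap k S.g (p + 1))]
  omega

/-- Sections lift when the first cohomology of the first module injects. -/
theorem surjective_app_top_of_injective (h : Function.Injective (hmap k S.f 1)) :
    ∀ τ : Γ(S.X₃, (⊤ : X.Opens)), ∃ w : Γ(S.X₂, (⊤ : X.Opens)), S.g.app ⊤ w = τ := fun τ => by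
  have h0 : hdelta k hS 0 ((hh0 _).symm τ) = 0 := by
    refine h ?_
    rw [map_zero]
    exact (exact_hdelta_hmap k hS 0).apply_apply_eq_zero _
  obtain ⟨w, hw⟩ := (exact_hmap_hdelta k hS 0 _).1 h0
  exact ⟨hh0 _ w, by rw [← hh0_hmap k, hw, AddEquiv.apply_symm_apply]⟩

end SES

/-- A map with small kernel and cokernel is bijective on high cohomology of large twists. -/
theorem exists_finrank_eq_of_small (hL : PicF.IsInvertible L)
    (h : ∀ (Z : Scheme.{u}) (i : Z ⟶ X), IsClosedImmersion i → IsIntegral Z → Set.range i ≠ Set.univ →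
      CohB1.IsAmple ((Scheme.Modules.pullback i).obj L))
    {W N : X.Modules} (φ : W ⟶ N) (hW : Coh.IsCoh W) (hN : Coh.IsCoh N)
    (hk : CohB1.support (kernel φ) ≠ Set.univ) (hc : CohB1.support (cokernel φ) ≠ Set.univ) (p : ℕ) :
    ∃ n₀, ∀ n, n₀ ≤ n → Module.finrank k (Coh.HH X (CohB1.tensorMod W (CohB1.tensorPow L n)) (p + 2)) =
      Module.finrank k (Coh.HH X (CohB1.tensorMod N (CohB1.tensorPow L n)) (p + 2)) := by
  haveI : IsNoetherian X := CohFound.isNoetherian_of_isProper (X ↘ (Spec (CommRingCat.of k)))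
  let q := X ↘ (Spec (CommRingCat.of k))
  have hK : Coh.IsCoh (kernel φ) := CurveCoh17.isCoh_kernel hW hN.1 φ
  have hC : Coh.IsCoh (cokernel φ) := M1.isCoh_cokernel hW.1 hN φ
  have hI : Coh.IsCoh (Abelian.image φ) := CurveCoh17.isCoh_kernel hN hC.1 _
  obtain ⟨a, ha⟩ := van_of_support q hL h hK hk (p := p + 2) (Nat.succ_pos _)
  obtain ⟨b, hb⟩ := van_of_support q hL h hK hk (p := p + 2 + 1) (Nat.succ_pos _)
  obtain ⟨c, hc'⟩ := van_of_support q hL h hC hc (p := p + 1) (Nat.succ_pos _)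
  obtain ⟨e, he⟩ := van_of_support q hL h hC hc (p := p + 1 + 1) (Nat.succ_pos _)
  refine ⟨max (max a b) (max c e), fun n hn => ?_⟩
  simp only [max_le_iff] at hn
  have hT := M2.isInvertible_tensorPow hL n
  let T := CohB1.tensorPow L n
  have hTc := Snapper.isCoh_of_isInvertible hT
  let S₁ := (ShortComplex.mk (kernel.ι φ) (Abelian.factorThruImage φ) (by
    rw [← cancel_mono (Abelian.image.ι φ)]; simp)).map (M2.tensorR T)
  let S₂ := (ShortComplex.mk (Abelian.image.ι φ) (cokernel.π φ) (kernel.condition _)).map (M2.tensorR T)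
  have h1 : S₁.ShortExact := CurveCoh17.shortExact_tensorR (CurveCoh17.kerSC_shortExact φ) T (Snapper.flat_stalk hT)
  have h2 : S₂.ShortExact := CurveCoh17.shortExact_tensorR (CurveCoh17.cokerSC_shortExact φ) T (Snapper.flat_stalk hT)
  haveI : Subsingleton (Coh.HH X S₁.X₁ (p + 2)) := (CohFound.subsingleton_HH_iff _ _).2 (ha n hn.1.1)
  haveI : Subsingleton (Coh.HH X S₁.X₁ (p + 2 + 1)) := (CohFound.subsingleton_HH_iff _ _).2 (hb n hn.1.2)
  haveI : Subsingleton (Coh.HH X S₂.X₃ (p + 1)) := (CohFound.subsingleton_HH_iff _ _).2 (hc' n hn.2.1)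
  haveI : Subsingleton (Coh.HH X S₂.X₃ (p + 1 + 1)) := (CohFound.subsingleton_HH_iff _ _).2 (he n hn.2.2)
  exact (finrank_mid_eq_right k h1 (CurveCoh17.isCoh_tensor hW hTc) (CurveCoh17.isCoh_tensor hI hTc)).trans
    (finrank_left_eq_mid k h2 (CurveCoh17.isCoh_tensor hI hTc) (CurveCoh17.isCoh_tensor hN hTc))

/-- A closed set missing the generic point is not everything. -/
theorem ne_univ_of_notMem {C : Set X} {x : X} (h : x ∉ C) : C ≠ Set.univ := fun e => h (e ▸ Set.mem_univ x)

/-- The high cohomology of the powers is eventually constant. -/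
theorem exists_finrank_pow_succ [IsIntegral X] (hL : PicF.IsInvertible L)
    (h : ∀ (Z : Scheme.{u}) (i : Z ⟶ X), IsClosedImmersion i → IsIntegral Z → Set.range i ≠ Set.univ →
      CohB1.IsAmple ((Scheme.Modules.pullback i).obj L)) (p : ℕ) :
    ∃ n₀, ∀ n, n₀ ≤ n → Module.finrank k (Coh.HH X (CohB1.tensorPow L (n + 1)) (p + 2)) =
      Module.finrank k (Coh.HH X (CohB1.tensorPow L n) (p + 2)) := by
  haveI : IsNoetherian X := CohFound.isNoetherian_of_isProper (X ↘ (Spec (CommRingCat.of k)))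
  let G := Coh.structureModule X
  have hG : Coh.IsCoh G := M1.isCoh_structureModule X
  have hG' : Coh.IsCoh (CohB1.tensorMod G L) := CurveCoh17.isCoh_tensor hG (Snapper.isCoh_of_isInvertible hL)
  obtain ⟨V, hηV, ⟨eV⟩⟩ := hL (genericPoint X)
  obtain ⟨U, hU, hηU, hUV⟩ := exists_isAffineOpen_mem_and_subset (U := V) hηV
  obtain ⟨eU⟩ := M2.nonempty_trivial_mono hUV eV
  have hcl : closure ({genericPoint X} : Set X) = Set.univ := genericPoint_closure X
  obtain ⟨W, φ, ψ, hW, k1, c1, k2, c2⟩ := Snapper.exists_zigzag (CurveAmple18.isSeparated k X) hG hG'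
    (hcl ▸ Set.subset_univ _) (hcl ▸ Set.subset_univ _) hU hηU
    (M2.restrictTensorIso U.ι G L ≪≫ M2.tensorIso (Iso.refl _) eU ≪≫ M2.tensorRUnit _)
  have hne : ∀ {C : Set X}, C ⊆ closure {genericPoint X} \ (U : Set X) → C ≠ Set.univ := fun {C} hC =>
    ne_univ_of_notMem fun hm => (hC hm).2 hηU
  obtain ⟨a, ha⟩ := exists_finrank_eq_of_small k hL h φ hW hG (hne k1) (hne c1) p
  obtain ⟨b, hb⟩ := exists_finrank_eq_of_small k hL h ψ hW hG' (hne k2) (hne c2) p
  refine ⟨max a b, fun n hn => ?_⟩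
  let e₁ : CohB1.tensorMod (CohB1.tensorMod G L) (CohB1.tensorPow L n) ≅ CohB1.tensorPow L (n + 1) :=
    M2.tensorIso (M2.tensorLUnit L) (Iso.refl _) ≪≫ M2.tensorComm L (CohB1.tensorPow L n)
  let e₀ : CohB1.tensorMod G (CohB1.tensorPow L n) ≅ CohB1.tensorPow L n := M2.tensorLUnit _
  rw [← (hequiv k e₁ _).finrank_eq, ← (hequiv k e₀ _).finrank_eq, ← hb n (le_of_max_le_right hn),
    ← ha n (le_of_max_le_left hn)]

/-- Growing Euler characteristic gives a section of a power. -/
theorem exists_section_of_tendsto [IsIntegral X] (hL : PicF.IsInvertible L)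
    (h : ∀ (Z : Scheme.{u}) (i : Z ⟶ X), IsClosedImmersion i → IsIntegral Z → Set.range i ≠ Set.univ →
      CohB1.IsAmple ((Scheme.Modules.pullback i).obj L))
    (hgrow : Tendsto (fun n : ℕ => (Curv2.euler k X (CohB1.tensorPow L n) : ℚ)) atTop atTop) :
    ∃ m : ℕ, 0 < m ∧ ∃ s : Γ(CohB1.tensorPow L m, (⊤ : X.Opens)), s ≠ 0 := by
  classical
  obtain ⟨N, hN⟩ := EulerAdd18.exists_bdd k X
  choose n₀ hn₀ using exists_finrank_pow_succ k hL h
  let n₁ := (Finset.range (N + 1)).sup n₀
  let c : ℕ → ℕ → ℕ := fun p n => Module.finrank k (Coh.HH X (CohB1.tensorPow L n) p)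
  have hconst : ∀ p, 2 ≤ p → ∀ n, n₁ ≤ n → p ≤ N → c p n = c p n₁ := by
    intro p hp n hn hpN
    obtain ⟨q, rfl⟩ := Nat.exists_eq_add_of_le' hp
    induction n, hn using Nat.le_induction with
    | base => rfl
    | succ n hn ih =>
      exact (hn₀ q n (le_trans (Finset.le_sup (Finset.mem_range.2 (by omega))) hn)).trans ih
  let C : ℚ := ∑ p ∈ Finset.range (N + 1), (c p n₁ : ℚ)
  obtain ⟨m, hm⟩ := ((hgrow.eventually_gt_atTop C).and (eventually_ge_atTop (n₁ + 1))).exists
  have hcoh : Coh.IsCoh (CohB1.tensorPow L m) := Snapper.isCoh_of_isInvertible (M2.isInvertible_tensorPow hL m)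
  have he := (hN _ hcoh).euler_eq
  have hle : (Curv2.euler k X (CohB1.tensorPow L m) : ℚ) ≤ (c 0 m : ℚ) + C := by
    rw [he, Int.cast_sum, Finset.sum_range_succ']
    push_cast
    simp only [pow_zero, one_mul]
    rw [add_comm]
    refine add_le_add le_rfl ?_
    calc ∑ p ∈ Finset.range N, (-1 : ℚ) ^ (p + 1) * (c (p + 1) m : ℚ)
        ≤ ∑ p ∈ Finset.range N, (c (p + 1) n₁ : ℚ) := by
          refine Finset.sum_le_sum fun p hp => ?_
          rcases Nat.eq_zero_or_pos p with rfl | hp0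
          · simp only [zero_add, pow_one, neg_one_mul]
            exact le_trans (neg_nonpos.2 (Nat.cast_nonneg _)) (Nat.cast_nonneg _)
          · rw [hconst (p + 1) (by omega) m (by omega) (by have := Finset.mem_range.1 hp; omega)]
            rcases neg_one_pow_eq_or ℚ (p + 1) with h | h <;> rw [h] <;> simp
      _ ≤ C := by
          refine le_of_le_of_eq (le_add_of_nonneg_right (Nat.cast_nonneg (c 0 n₁)))
            (Finset.sum_range_succ' (fun p => (c p n₁ : ℚ)) N).symm
  have hpos : 0 < c 0 m := by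
    rw [← Nat.cast_pos (α := ℚ)]
    linarith [hm.1]
  haveI : Nontrivial (Coh.HH X (CohB1.tensorPow L m) 0) := Module.nontrivial_of_finrank_pos hpos
  obtain ⟨z, hz⟩ := exists_ne (0 : Coh.HH X (CohB1.tensorPow L m) 0)
  exact ⟨m, by omega, hh0 _ z, fun h0 => hz ((hh0 _).injective (h0.trans (map_zero _).symm))⟩

include k in
/-- A power with a section has powers generated at every point outside the locus of the section. -/
theorem exists_gen_at [IsIntegral X] {M : X.Modules} (hM : PicF.IsInvertible M)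
    (h : ∀ (Z : Scheme.{u}) (i : Z ⟶ X), IsClosedImmersion i → IsIntegral Z → Set.range i ≠ Set.univ →
      CohB1.IsAmple ((Scheme.Modules.pullback i).obj M))
    (s : Γ(M, (⊤ : X.Opens))) (hs : s ≠ 0) {x : X} (hxc : IsClosed ({x} : Set X))
    (hx : x ∉ CohB1.genLocus M (secHom s)) :
    ∃ (j : ℕ) (G : X.Opens), Amp.HasSec M (j + 1) G ∧ x ∈ G := by
  classical
  haveI : IsNoetherian X := CohFound.isNoetherian_of_isProper (X ↘ (Spec (CommRingCat.of k)))
  let q' := X ↘ (Spec (CommRingCat.of k))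
  have hMc := Snapper.isCoh_of_isInvertible hM
  have hr1 := (M2.isInvertible_iff_isFinLocFreeOfRank_one M).1 hM
  haveI : Mono (secHom s) := (M1.mono_iff_stalk _).2 (CurveCoh17.injective_stalk_secHom hr1 hs)
  let Q := cokernel (secHom s)
  let π : M ⟶ Q := cokernel.π _
  have hQ : Coh.IsCoh Q := M1.isCoh_cokernel (M1.isCoh_structureModule X).1 hMc _
  have hQη : ∀ b : Q.presheaf.stalk (genericPoint X), b = 0 :=
    CurveCoh17.eq_zero_stalk_cokernel _ _ (CurveCoh17.surjective_stalkLin_genericPoint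
      (CurveCoh17.nonempty_stalk_equiv_structureModule _) (CurveCoh17.nonempty_stalk_equiv hr1 _) _
      (CurveCoh17.injective_stalk_secHom hr1 hs _))
  have hQne : CohB1.support Q ≠ Set.univ := ne_univ_of_notMem ((M1.notMem_support_iff _ _).2 hQη)
  let N : Submodule (X.presheaf.stalk x) (Q.presheaf.stalk x) := IsLocalRing.maximalIdeal (X.presheaf.stalk x) • ⊤
  have hA : Coh.IsCoh (CohFound.cutAt Q x N) := CohFound.isCoh_cutAt' Q x N hQ fun g hg =>
    ⟨1, fun a => by rw [pow_one]; exact Submodule.smul_mem_smul hg trivial⟩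
  let κ := CohFound.cutι Q x N
  let Q₂ := cokernel κ
  let π₂ : Q ⟶ Q₂ := cokernel.π _
  have hA_ne : CohB1.support (CohFound.cutAt Q x N) ≠ Set.univ := fun e =>
    hQne (Set.eq_univ_of_univ_subset (e ▸ CohFound.support_subset_of_mono κ))
  have hQ₂supp : ∀ y ≠ x, ∀ q : Q₂.presheaf.stalk y, q = 0 := fun y hy q => by
    obtain ⟨b, rfl⟩ := CohFound.stL_surjective_of_epi π₂ y q
    obtain ⟨V, hV, t, rfl⟩ := Q.presheaf.exists_germ_eq b
    let W : X.Opens := V ⊓ ⟨{x}ᶜ, hxc.isOpen_compl⟩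
    obtain ⟨f, hf⟩ := (CohFound.exists_cutι_iff Q x N (M1.mres Q (inf_le_left : W ≤ V) t)).2
      fun hη => absurd rfl hη.2
    rw [← M1.germ_mres Q (inf_le_left : W ≤ V) (x := y) ⟨hV, hy⟩ t, ← hf, ← CohFound.stL_germ,
      ← CohFound.stL_comp, cokernel.condition, CohFound.stL_zero]
  have hkill : ∀ c ∈ IsLocalRing.maximalIdeal (X.presheaf.stalk x), ∀ q : Q₂.presheaf.stalk x, c • q = 0 :=
    fun c hc q => by
      obtain ⟨b, rfl⟩ := CohFound.stL_surjective_of_epi π₂ x q
      obtain ⟨e, he⟩ := (CohFound.range_stL_cutι Q x N).ge (Submodule.smul_mem_smul hc (Submodule.mem_top (x := b)))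
      rw [← map_smul, ← he, ← CohFound.stL_comp, cokernel.condition, CohFound.stL_zero]
  -- the image of a generator in `Q₂` is not zero
  obtain ⟨g, hg⟩ := Amp.exists_stalk_gen hM x
  have himg : ∀ a, stalkLin (secHom s) x a ∈
      (IsLocalRing.maximalIdeal (X.presheaf.stalk x) • ⊤ : Submodule (X.presheaf.stalk x) (M.presheaf.stalk x)) :=
    fun a => by
    obtain ⟨d, -, hd⟩ := stalkLin_secHom s x a
    obtain ⟨α, hα⟩ := hg.2 (Amp.gm M x (U := ⊤) trivial s)
    simp only at hα
    have hαm : α ∈ IsLocalRing.maximalIdeal (X.presheaf.stalk x) := fun hu => hx ((Amp.mem_genLocus_iff hM _).2 (by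
      rw [Amp.gval_secHom, ← hα]
      exact (hg.ne_zero_smul _).2 hu))
    rw [hd]
    refine Submodule.smul_mem _ d ?_
    show Amp.gm M x (U := ⊤) trivial s ∈ _
    rw [← hα]
    exact Submodule.smul_mem_smul hαm Submodule.mem_top
  have hq₂ : CohFound.stL π₂ x (CohFound.stL π x g) ≠ 0 := fun h0 => by
    have hS₂ : (ShortComplex.mk κ π₂ (cokernel.condition _)).Exact := ShortComplex.exact_cokernel _
    obtain ⟨e, he⟩ := M1.exact_elem hS₂ x _ h0
    have hmem : CohFound.stL π x g ∈ N := (CohFound.range_stL_cutι Q x N).le ⟨e, he⟩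
    have hN' : N ≤ Submodule.map (CohFound.stL π x) (IsLocalRing.maximalIdeal (X.presheaf.stalk x) • ⊤) := by
      rw [Submodule.map_smul'', Submodule.map_top, LinearMap.range_eq_top.2 (CohFound.stL_surjective_of_epi π x)]
    obtain ⟨v, hv, hvg⟩ := hN' hmem
    have hS₁ : (ShortComplex.mk (secHom s) π (cokernel.condition _)).Exact := ShortComplex.exact_cokernel _
    obtain ⟨a, ha⟩ := M1.exact_elem hS₁ x (g - v) (by
      show CohFound.stL π x (g - v) = 0
      rw [map_sub, hvg, sub_self])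
    refine CohFound.not_gen_of_mem ?_ hg
    rw [← sub_add_cancel g v, ← ha]
    exact Submodule.add_mem _ (himg a) hv
  -- the twist
  obtain ⟨n₁, hn₁⟩ := van_of_support q' hM h hA hA_ne (p := 1) one_pos
  obtain ⟨n₂, hn₂⟩ := van_of_support q' hM h hQ hQne (p := 1) one_pos
  let a : ℕ → ℕ := fun m => Module.finrank k (Coh.HH X (CohB1.tensorPow M m) 1)
  let T : ℕ → ShortComplex X.Modules := fun m => (secSC s).map (M2.tensorR (CohB1.tensorPow M m))
  have hTc : ∀ m, Coh.IsCoh (CohB1.tensorPow M m) := fun m =>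
    Snapper.isCoh_of_isInvertible (M2.isInvertible_tensorPow hM m)
  have hT : ∀ m, (T m).ShortExact := fun m => CurveCoh17.shortExact_tensorR (secSC_shortExact s) _
    (Snapper.flat_stalk (M2.isInvertible_tensorPow hM m))
  let e₁ : ∀ m, (T m).X₁ ≅ CohB1.tensorPow M m := fun m => M2.tensorLUnit _
  let e₂ : ∀ m, (T m).X₂ ≅ CohB1.tensorPow M (m + 1) := fun m => M2.tensorComm M (CohB1.tensorPow M m)
  have hsurj : ∀ m, n₂ ≤ m → Function.Surjective (hmap k (T m).f 1) := fun m hm x => by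
    haveI : Subsingleton (Coh.HH X (T m).X₃ 1) := (CohFound.subsingleton_HH_iff _ _).2 (hn₂ m hm)
    exact (exact_hmap_hmap k (hT m) 1 x).1 (Subsingleton.elim _ _)
  obtain ⟨m, hm₁, hm₂, hm⟩ : ∃ m, n₁ ≤ m ∧ n₂ ≤ m ∧ a m ≤ a (m + 1) := by
    by_contra hcon
    push Not at hcon
    have : ∀ i, a (max n₁ n₂ + i) + i ≤ a (max n₁ n₂) := fun i => by
      induction i with
      | zero => exact le_rfl
      | succ i ih =>
        have := hcon (max n₁ n₂ + i) (by omega) (by omega)
        rw [show max n₁ n₂ + (i + 1) = max n₁ n₂ + i + 1 by omega]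
        omega
    have := this (a (max n₁ n₂) + 1)
    omega
  haveI : Module.Finite k (Coh.HH X (T m).X₁ 1) :=
    CohFound.finite_HH_of_isProper (A := k) _ (CurveCoh17.isCoh_tensor (M1.isCoh_structureModule X) (hTc m)) 1
  haveI : Module.Finite k (Coh.HH X (T m).X₂ 1) :=
    CohFound.finite_HH_of_isProper (A := k) _ (CurveCoh17.isCoh_tensor hMc (hTc m)) 1
  have hinj : Function.Injective (hmap k (T m).f 1) := by
    refine (LinearMap.injective_iff_surjective_of_finrank_eq_finrank ?_).2 (hsurj m hm₂)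
    refine le_antisymm ?_ (LinearMap.finrank_le_finrank_of_surjective (f := hmap k (T m).f 1) (hsurj m hm₂))
    rw [(hequiv k (e₁ m) 1).finrank_eq, (hequiv k (e₂ m) 1).finrank_eq]
    exact hm
  let E := CohB1.tensorPow M m
  have hE : PicF.IsInvertible E := M2.isInvertible_tensorPow hM m
  have hS₂e : ((ShortComplex.mk κ π₂ (cokernel.condition _)).map (M2.tensorR E)).ShortExact :=
    CurveCoh17.shortExact_tensorR { exact := ShortComplex.exact_cokernel _ } E (Snapper.flat_stalk hE)
  have hsub : Subsingleton (Coh.HH X (CohB1.tensorMod (CohFound.cutAt Q x N) E) 1) :=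
    (CohFound.subsingleton_HH_iff _ _).2 (hn₁ m hm₁)
  obtain ⟨gE, hgE⟩ := Amp.exists_stalk_gen hE x
  have hsuppT : CohB1.support (CohB1.tensorMod Q₂ E) ⊆ {x} := fun y hy => by
    by_contra h'
    exact (M1.notMem_support_iff Q₂ y).2 (hQ₂supp y h') (Snapper.support_tensor_subset Q₂ E hy)
  obtain ⟨σ, hσ⟩ := CohFound.exists_global_of_support hxc hsuppT
    ((M2.stalkEquiv Q₂ E x).symm (CohFound.stL π₂ x (CohFound.stL π x g) ⊗ₜ gE))
  obtain ⟨τ, hτ⟩ := surjective_app_top_of_injective k hS₂e (fun _ _ _ => hsub.elim _ _) σ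
  obtain ⟨w, hw⟩ := surjective_app_top_of_injective k (hT m) hinj τ
  refine ⟨m, _, Amp.hasSec_of_iso (e₂ m) (secHom w), ?_⟩
  have hinv : PicF.IsInvertible (T m).X₂ := M2.isInvertible_tensor hM hE
  rw [Amp.mem_genLocus_iff hinv, Amp.gval_secHom]
  by_contra hng
  obtain ⟨gT, hgT⟩ := Amp.exists_stalk_gen hinv x
  obtain ⟨c, hc⟩ := hgT.2 (Amp.gm _ x (U := ⊤) trivial w)
  simp only at hc
  have hcm : c ∈ IsLocalRing.maximalIdeal (X.presheaf.stalk x) := fun hu =>
    hng (hc ▸ (hgT.ne_zero_smul c).2 hu)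
  have himgw : stalkLin ((M2.tensorR E).map π₂) x (stalkLin (T m).g x (Amp.gm _ x (U := ⊤) trivial w)) =
      (M2.stalkEquiv Q₂ E x).symm (CohFound.stL π₂ x (CohFound.stL π x g) ⊗ₜ gE) := by
    rw [← hσ, ← hτ, ← hw]
    exact (congrArg _ (M1.germ_naturality (T m).g ⊤ x trivial w)).trans
      (M1.germ_naturality ((M2.tensorR E).map π₂) ⊤ x trivial _)
  rw [← hc, map_smul, map_smul] at himgw
  have h0 : c • stalkLin ((M2.tensorR E).map π₂) x (stalkLin (T m).g x gT) = 0 := by
    refine (M2.stalkEquiv Q₂ E x).injective ?_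
    rw [map_smul, map_zero]
    induction M2.stalkEquiv Q₂ E x (stalkLin ((M2.tensorR E).map π₂) x (stalkLin (T m).g x gT))
      using TensorProduct.induction_on with
    | zero => rw [smul_zero]
    | tmul p q => rw [TensorProduct.smul_tmul', hkill c hcm p, TensorProduct.zero_tmul]
    | add a b ha hb => rw [smul_add, ha, hb, add_zero]
  rw [h0] at himgw
  have ht := (M2.stalkEquiv Q₂ E x).symm.injective ((map_zero _).trans himgw)
  let eg := (LinearEquiv.ofBijective (LinearMap.toSpanSingleton (X.presheaf.stalk x) (E.presheaf.stalk x) gE) hgE).symm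
  refine hq₂ ?_
  have := congrArg ((TensorProduct.rid _ _).toLinearMap.comp
    (LinearMap.lTensor (Q₂.presheaf.stalk x) eg.toLinearMap)) ht.symm
  rw [map_zero, LinearMap.comp_apply, LinearMap.lTensor_tmul, LinearEquiv.coe_coe, LinearEquiv.coe_coe,
    TensorProduct.rid_tmul, show eg gE = 1 from (LinearEquiv.symm_apply_eq _).2
      (by simp [LinearMap.toSpanSingleton_apply]), one_smul] at this
  exact this

include k in
/-- A power with a section and ample on the smaller subschemes is ample. -/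
theorem isAmple_of_section [IsIntegral X] (hL : PicF.IsInvertible L)
    (h : ∀ (Z : Scheme.{u}) (i : Z ⟶ X), IsClosedImmersion i → IsIntegral Z → Set.range i ≠ Set.univ →
      CohB1.IsAmple ((Scheme.Modules.pullback i).obj L))
    (hcurve : topologicalKrullDim X ≠ 1)
    {a : ℕ} (ha : 0 < a) (s : Γ(CohB1.tensorPow L a, (⊤ : X.Opens))) (hs : s ≠ 0) :
    CohB1.IsAmple L := by
  classical
  haveI : IsNoetherian X := CohFound.isNoetherian_of_isProper (X ↘ (Spec (CommRingCat.of k)))
  let M := CohB1.tensorPow L a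
  have hM : PicF.IsInvertible M := M2.isInvertible_tensorPow hL a
  have hMi : ∀ (Z : Scheme.{u}) (i : Z ⟶ X), IsClosedImmersion i → IsIntegral Z → Set.range i ≠ Set.univ →
      CohB1.IsAmple ((Scheme.Modules.pullback i).obj M) := fun Z i hi hZ hr =>
    Amp.isAmple_of_iso (M2.pullTensorPowIso i L a).symm
      ((Amp.isAmple_tensorPow_iff (Twist.isInvertible_pullback i hL) ha).2 (h Z i hi hZ hr))
  let Ω : Set X := {y | ∃ (j : ℕ) (G : X.Opens), Amp.HasSec M (j + 1) G ∧ y ∈ G}
  have hΩ : IsOpen Ω := isOpen_iff_forall_mem_open.2 fun y ⟨j, G, hG, hy⟩ =>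
    ⟨G, fun z hz => ⟨j, G, hG, hz⟩, G.isOpen, hy⟩
  have hall : ∀ y, ∃ (j : ℕ) (G : X.Opens), Amp.HasSec M (j + 1) G ∧ y ∈ G := by
    by_contra hne
    push Not at hne
    obtain ⟨y, hy⟩ := hne
    obtain ⟨x, hxΩ, hxc⟩ := IsClosed.exists_closed_singleton hΩ.isClosed_compl
      ⟨y, fun ⟨j, G, hG, hyG⟩ => hy j G hG hyG⟩
    refine hxΩ ?_
    by_cases hx : x ∈ CohB1.genLocus M (secHom s)
    · exact ⟨0, _, Amp.hasSec_of_iso (M2.tensorPowOne M).symm (secHom s), hx⟩
    · exact exists_gen_at k hM hMi s hs hxc hx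
  choose j G hG hyG using hall
  obtain ⟨S, hS⟩ := isCompact_univ.elim_finite_subcover (fun y : X => (G y : Set X)) (fun y => (G y).isOpen)
    fun y _ => Set.mem_iUnion.2 ⟨y, hyG y⟩
  let P := ∏ y ∈ S, (j y + 1)
  have hP : 0 < P := Finset.prod_pos fun _ _ => Nat.succ_pos _
  have hgen : ∀ z : X, ∃ t : Coh.structureModule X ⟶ CohB1.tensorPow M P, z ∈ CohB1.genLocus _ t := fun z => by
    obtain ⟨y, hy, hz⟩ := Set.mem_iUnion₂.1 (hS (Set.mem_univ z))
    obtain ⟨c, hc⟩ : j y + 1 ∣ P := Finset.dvd_prod_of_mem _ hy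
    obtain ⟨c', rfl⟩ := Nat.exists_eq_succ_of_ne_zero (fun h0 : c = 0 => hP.ne' (by rw [hc, h0, mul_zero]))
    obtain ⟨t, ht⟩ := ((hG y).powPow hM c').of_eq hc.symm
    exact ⟨t, ht ▸ hz⟩
  refine (Amp.isAmple_tensorPow_iff hL ha).1 ((Amp.isAmple_tensorPow_iff hM hP).1 ?_)
  refine isAmple_of_gen_of_curves k (M2.isInvertible_tensorPow hM P) hgen fun C hC hC1 => ?_
  refine Amp.isAmple_of_iso (M2.pullTensorPowIso C.subschemeι M P).symm
    ((Amp.isAmple_tensorPow_iff (Twist.isInvertible_pullback _ hM) hP).2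
      (hMi _ C.subschemeι inferInstance hC fun e => hcurve ?_))
  rw [Scheme.IdealSheafData.range_subschemeι] at e
  rw [← hC1, e]
  exact (IsHomeomorph.topologicalKrullDim_eq _ (Homeomorph.Set.univ X).isHomeomorph).symm

/-- The induction step of the Nakai criterion. -/
theorem isAmple_of_tendsto [IsIntegral X] (hL : PicF.IsInvertible L)
    (h : ∀ (Z : Scheme.{u}) (i : Z ⟶ X), IsClosedImmersion i → IsIntegral Z → Set.range i ≠ Set.univ →
      CohB1.IsAmple ((Scheme.Modules.pullback i).obj L))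
    (hcurve : topologicalKrullDim X ≠ 1)
    (hgrow : Tendsto (fun n : ℕ => (Curv2.euler k X (CohB1.tensorPow L n) : ℚ)) atTop atTop) :
    CohB1.IsAmple L := by
  obtain ⟨a, ha, s, hs⟩ := exists_section_of_tendsto k hL h hgrow
  exact isAmple_of_section k hL h hcurve ha s hs

end Groth.Agent.AmpleFin18
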